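import Mathlib
import Cfsg.Prelude.Def_Characters
import Cfsg.Prelude.Def_ParabolicCharacters
import Cfsg.Agent.Lib.Frobenius.Induce
import Cfsg.Agent.Lib.SL2.Unipotent

/-!
The functions induced to `SL₂` from linear characters of the Borel subgroup.
-/

set_option autoImplicit false

open Matrix
open scoped MatrixGroups ComplexConjugate

namespace CfsgLib.CharDegrees

open CfsgLib.SL2

variable {F : Type*} [Field F] [Fintype F] [DecidableEq F]

local notation "M₂" => Matrix (Fin 2) (Fin 2) F

/-- The Borel subgroup, in the Prelude's form. -/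
abbrev borelU (F : Type*) [Field F] : Subgroup (SL(2, F)) :=
  (Cfsg.upperTriangularGL 2 F).comap Matrix.SpecialLinearGroup.toGL

omit [Fintype F] [DecidableEq F] in
theorem mem_borelU {g : SL(2, F)} : g ∈ borelU F ↔ (g : M₂) 1 0 = 0 := by
  constructor
  · intro h
    exact (h : (g : M₂).BlockTriangular id) (show (id (0 : Fin 2)) < id 1 by decide)
  · intro h
    show (g : M₂).BlockTriangular id
    intro i j hij
    fin_cases i <;> fin_cases j <;> simp_all

omit [Fintype F] [DecidableEq F] in
theorem borelU_eq_borel : borelU F = borel F := Subgroup.ext fun g => by rw [mem_borelU, mem_borel]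

/-- The linear character `b ↦ α b₀₀`. -/
noncomputable abbrev borelChar (α : MulChar F ℂ) : borelU F → ℂ := fun b => α (((b : SL(2, F)) : M₂) 0 0)

/-- The induced function. -/
noncomputable abbrev principalSeries (α : MulChar F ℂ) : SL(2, F) → ℂ :=
  Cfsg.indFun (borelU F) (borelChar α)

omit [Fintype F] [DecidableEq F] in
theorem mulVec_mulVec_inv (x : SL(2, F)) (w : Fin 2 → F) :
    (x : M₂) *ᵥ (((x⁻¹ : SL(2, F)) : M₂) *ᵥ w) = w := by
  rw [mulVec_mulVec, ← Matrix.SpecialLinearGroup.coe_mul, mul_inv_cancel,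
    Matrix.SpecialLinearGroup.coe_one, one_mulVec]

omit [Fintype F] [DecidableEq F] in
theorem inv_mulVec_mulVec (x : SL(2, F)) (w : Fin 2 → F) :
    ((x⁻¹ : SL(2, F)) : M₂) *ᵥ ((x : M₂) *ᵥ w) = w := by
  rw [mulVec_mulVec, ← Matrix.SpecialLinearGroup.coe_mul, inv_mul_cancel,
    Matrix.SpecialLinearGroup.coe_one, one_mulVec]

/-- The value of the induced function by eigenvectors. -/
theorem principalSeries_apply (α : MulChar F ℂ) (g : SL(2, F)) :
    principalSeries α g = ((Fintype.card F : ℂ) - 1)⁻¹ *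
      ∑ v : Fin 2 → F, ∑ c : F, if v ≠ 0 ∧ (g : M₂) *ᵥ v = c • v then α c else 0 := by
  classical
  set e : Fin 2 → F := Pi.single 0 1 with he
  have hkey : ∀ x : SL(2, F), Cfsg.extendByZero (borelU F) (borelChar α) (x⁻¹ * g * x) =
      ∑ c : F, if (g : M₂) *ᵥ ((x : M₂) *ᵥ e) = c • ((x : M₂) *ᵥ e) then α c else 0 := by
    intro x
    set h := x⁻¹ * g * x with hh
    have hiff : ∀ c : F, (g : M₂) *ᵥ ((x : M₂) *ᵥ e) = c • ((x : M₂) *ᵥ e) ↔
        (h : M₂) 0 0 = c ∧ (h : M₂) 1 0 = 0 := by
      intro c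
      have h1 : (h : M₂) *ᵥ e = c • e ↔ (h : M₂) 0 0 = c ∧ (h : M₂) 1 0 = 0 := by
        rw [funext_iff, Fin.forall_fin_two]
        simp [he, mulVec_single]
      rw [← h1, hh, Matrix.SpecialLinearGroup.coe_mul, Matrix.SpecialLinearGroup.coe_mul,
        ← mulVec_mulVec, ← mulVec_mulVec, ← mulVec_smul]
      constructor
      · intro e1
        rw [e1, inv_mulVec_mulVec]
      · intro e1
        have := congrArg ((x : M₂) *ᵥ ·) e1
        simpa only [mulVec_mulVec_inv] using this
    simp only [hiff]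
    by_cases hb : (h : M₂) 1 0 = 0
    · rw [Frobenius.extendByZero_of_mem _ _ (mem_borelU.2 hb), Finset.sum_eq_single ((h : M₂) 0 0)]
      · simp [hb, borelChar]
      · intro c _ hc; simp [Ne.symm hc]
      · simp
    · rw [Frobenius.extendByZero_of_not_mem _ _ (mt mem_borelU.1 hb)]
      simp [hb]
  have hsum : ∀ f : (Fin 2 → F) → ℂ, ∑ x : SL(2, F), f ((x : M₂) *ᵥ e) =
      (Fintype.card F : ℂ) * ∑ v : Fin 2 → F, if v ≠ 0 then f v else 0 := by
    intro f
    rw [← Finset.sum_fiberwise Finset.univ (fun x : SL(2, F) => (x : M₂) *ᵥ e), Finset.mul_sum]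
    refine Finset.sum_congr rfl fun v _ => ?_
    rw [Finset.sum_congr rfl (g := fun _ => f v) (fun x hx => by rw [(Finset.mem_filter.1 hx).2]),
      Finset.sum_const, nsmul_eq_mul]
    by_cases hv : v = 0
    · have : (Finset.univ.filter fun x : SL(2, F) => (x : M₂) *ᵥ e = v) = ∅ := by
        rw [Finset.filter_eq_empty_iff]
        intro x _ hx
        rw [hv] at hx
        have := congrArg (((x⁻¹ : SL(2, F)) : M₂) *ᵥ ·) hx
        simp only [inv_mulVec_mulVec, mulVec_zero] at this
        simpa [he] using congrFun this 0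
      rw [this]
      simp [hv]
    · rw [if_pos hv]
      congr 2
      obtain ⟨x₀, hx₀⟩ : ∃ x₀ : SL(2, F), (x₀ : M₂) *ᵥ e = v := by
        by_cases h0 : v 0 = 0
        · have h1 : v 1 ≠ 0 := fun h1 => hv (by ext i; fin_cases i <;> assumption)
          refine ⟨⟨!![0, -(v 1)⁻¹; v 1, 0], by simp [det_fin_two_of, h1]⟩, ?_⟩
          ext i; fin_cases i <;> simp [he, mulVec_single, h0]
        · refine ⟨⟨!![v 0, 0; v 1, (v 0)⁻¹], by simp [det_fin_two_of, h0]⟩, ?_⟩
          ext i; fin_cases i <;> simp [he, mulVec_single]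
      have hu : ∀ t : F, (CfsgLib.ClassicalLinear.upS t : M₂) *ᵥ e = e := fun t => by
        ext i; fin_cases i <;> simp [he, mulVec_single, CfsgLib.ClassicalLinear.upS_coe]
      rw [← Finset.card_univ]
      symm
      refine Finset.card_bij (fun t _ => x₀ * CfsgLib.ClassicalLinear.upS t) (fun t _ => ?_)
        (fun a _ b _ h => CfsgLib.ClassicalLinear.upS_injective (mul_left_cancel h)) (fun x hx => ?_)
      · rw [Finset.mem_filter]
        exact ⟨Finset.mem_univ _, by rw [Matrix.SpecialLinearGroup.coe_mul, ← mulVec_mulVec, hu, hx₀]⟩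
      · set y := x₀⁻¹ * x with hy
        have hye : (y : M₂) *ᵥ e = e := by
          rw [hy, Matrix.SpecialLinearGroup.coe_mul, ← mulVec_mulVec, (Finset.mem_filter.1 hx).2, ← hx₀,
            inv_mulVec_mulVec]
        have h00 : (y : M₂) 0 0 = 1 := by simpa [he, mulVec_single] using congrFun hye 0
        have h10 : (y : M₂) 1 0 = 0 := by simpa [he, mulVec_single] using congrFun hye 1
        have h11 : (y : M₂) 1 1 = 1 := by
          have := det_eq y
          rw [h00, h10, mul_zero, sub_zero, one_mul] at this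
          exact this
        refine ⟨(y : M₂) 0 1, Finset.mem_univ _, ?_⟩
        have : CfsgLib.ClassicalLinear.upS ((y : M₂) 0 1) = y := by
          apply Subtype.ext
          rw [CfsgLib.ClassicalLinear.upS_coe]
          ext i j; fin_cases i <;> fin_cases j <;> simp [h00, h10, h11]
        rw [this, hy, mul_inv_cancel_left]
  unfold principalSeries Cfsg.indFun
  rw [Finset.sum_congr rfl (fun x _ => hkey x),
    hsum fun v => ∑ c : F, if (g : M₂) *ᵥ v = c • v then α c else 0]
  have hcard : (Nat.card (borelU F) : ℂ) = (Fintype.card F : ℂ) * ((Fintype.card F : ℂ) - 1) := by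
    rw [borelU_eq_borel, card_borel, Nat.card_eq_fintype_card, Nat.cast_mul,
      Nat.cast_sub Fintype.card_pos, Nat.cast_one]
  have hq : (Fintype.card F : ℂ) ≠ 0 := Nat.cast_ne_zero.2 Fintype.card_ne_zero
  rw [hcard, mul_inv, ← mul_assoc, mul_right_comm _ _ (Fintype.card F : ℂ), inv_mul_cancel₀ hq, one_mul]
  congr 1
  refine Finset.sum_congr rfl fun v _ => ?_
  by_cases hv : v = 0 <;> simp [hv]

theorem card_sub_one_ne_zero : (Fintype.card F : ℂ) - 1 ≠ 0 := by
  rw [sub_ne_zero]
  exact_mod_cast (Fintype.one_lt_card (α := F)).ne'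

theorem principalSeries_of_no_eigenvector (α : MulChar F ℂ) (g : SL(2, F))
    (h : ∀ (c : F) (v : Fin 2 → F), v ≠ 0 → (g : M₂) *ᵥ v ≠ c • v) : principalSeries α g = 0 := by
  rw [principalSeries_apply, Finset.sum_eq_zero, mul_zero]
  intro v _
  exact Finset.sum_eq_zero fun c _ => if_neg fun hh => h c v hh.1 hh.2

/-- The value on the Borel subgroup. -/
theorem principalSeries_upper (α : MulChar F ℂ) (g : SL(2, F)) (h10 : (g : M₂) 1 0 = 0) :
    principalSeries α g =
      if (g : M₂) 0 0 = (g : M₂) 1 1 then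
        (if (g : M₂) 0 1 = 0 then (Fintype.card F : ℂ) + 1 else 1) * α ((g : M₂) 0 0)
      else α ((g : M₂) 0 0) + α ((g : M₂) 1 1) := by
  classical
  rw [principalSeries_apply, inv_mul_eq_iff_eq_mul₀ card_sub_one_ne_zero]
  set a := (g : M₂) 0 0
  set b := (g : M₂) 0 1
  set d := (g : M₂) 1 1
  have hiff : ∀ (v : Fin 2 → F) (c : F), (g : M₂) *ᵥ v = c • v ↔
      a * v 0 + b * v 1 = c * v 0 ∧ d * v 1 = c * v 1 := by
    intro v c
    rw [funext_iff, Fin.forall_fin_two]
    simp [mulVec, dotProduct, h10, a, b, d]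
  simp only [hiff]
  -- split by the second coordinate
  rw [← (finTwoArrowEquiv F).symm.sum_comp, Fintype.sum_prod_type, Finset.sum_comm, ← Finset.add_sum_erase Finset.univ _ (Finset.mem_univ (0 : F))]
  have hzero : ∑ x : F, ∑ c : F, (if (finTwoArrowEquiv F).symm (x, 0) ≠ 0 ∧
      a * (finTwoArrowEquiv F).symm (x, 0) 0 + b * (finTwoArrowEquiv F).symm (x, 0) 1 =
        c * (finTwoArrowEquiv F).symm (x, 0) 0 ∧
      d * (finTwoArrowEquiv F).symm (x, 0) 1 = c * (finTwoArrowEquiv F).symm (x, 0) 1 then α c else 0) =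
      ((Fintype.card F : ℂ) - 1) * α a := by
    rw [Finset.sum_congr rfl (g := fun x : F => if x = 0 then 0 else α a)]
    · rw [Finset.sum_ite, Finset.sum_const_zero, zero_add, Finset.sum_const, nsmul_eq_mul,
        Finset.filter_ne', Finset.card_erase_of_mem (Finset.mem_univ _), Finset.card_univ,
        Nat.cast_sub Fintype.card_pos, Nat.cast_one]
    · intro x _
      by_cases hx0 : x = 0
      · simp [hx0]
      · rw [if_neg hx0, Finset.sum_eq_single a]
        · simp [hx0]
        · intro c _ hc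
          simp [hx0, Ne.symm hc]
        · simp
  have hne : ∀ y ∈ Finset.univ.erase (0 : F), ∑ x : F, ∑ c : F, (if (finTwoArrowEquiv F).symm (x, y) ≠ 0 ∧
      a * (finTwoArrowEquiv F).symm (x, y) 0 + b * (finTwoArrowEquiv F).symm (x, y) 1 =
        c * (finTwoArrowEquiv F).symm (x, y) 0 ∧
      d * (finTwoArrowEquiv F).symm (x, y) 1 = c * (finTwoArrowEquiv F).symm (x, y) 1 then α c else 0) =
      if a = d then (if b = 0 then (Fintype.card F : ℂ) * α d else 0) else α d := by
    intro y hy
    have hy0 := (Finset.mem_erase.1 hy).1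
    rw [Finset.sum_congr rfl (g := fun x : F => if a * x + b * y = d * x then α d else 0) (fun x _ => by
      rw [Finset.sum_eq_single d]
      · simp [hy0]
      · intro c _ hc
        simp [hy0, Ne.symm hc]
      · simp)]
    by_cases had : a = d
    · rw [if_pos had]
      by_cases hb : b = 0
      · simp [had, hb]
      · simp [had, hb, hy0]
    · rw [if_neg had, Finset.sum_eq_single (b * y / (d - a))]
      · rw [if_pos]
        field_simp [sub_ne_zero.2 (Ne.symm had)]
        ring
      · intro x _ hx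
        rw [if_neg]
        intro h
        apply hx
        rw [eq_div_iff (sub_ne_zero.2 (Ne.symm had))]
        linear_combination -h
      · simp
  rw [hzero, Finset.sum_congr rfl hne, Finset.sum_const, Finset.card_erase_of_mem (Finset.mem_univ _),
    Finset.card_univ, nsmul_eq_mul, Nat.cast_sub Fintype.card_pos, Nat.cast_one]
  by_cases had : a = d
  · by_cases hb : b = 0 <;> simp [had, hb] <;> ring
  · simp [had]; ring

end CfsgLib.CharDegrees
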