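import Mathlib
import Cfsg.Agent.Lib.CharDegrees.SL2Borel
import Cfsg.Agent.Lib.CharDegrees.PSLTwoClasses
import Cfsg.Agent.Lib.Brauer.IndCalc
import Cfsg.Agent.Lib.CharTheory.Inflation
import Cfsg.Agent.Lib.CharTheory.Orthogonality
import Cfsg.Agent.Lib.CharTheory.Linear

/-!
The irreducible characters of `SL₂(q)`, `q` odd, by inner products with the principal series
`principalSeries α` and the discrete series `discSeries C θ`.
-/

set_option autoImplicit false
set_option linter.unusedSectionVars false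
set_option linter.style.haveILetI false

open Matrix Cfsg
open scoped MatrixGroups ComplexConjugate

namespace CfsgLib.CharDegrees

open CfsgLib.SL2
open CfsgLib.ClassicalLinear (upS upS_coe upS_add upS_injective)

variable {F : Type*} [Field F] [Fintype F] [DecidableEq F]

local notation "M₂" => Matrix (Fin 2) (Fin 2) F

noncomputable instance instFintypeBorelU : Fintype (borelU F) := Fintype.ofFinite _

theorem conj_mulChar (α : MulChar F ℂ) (u : Fˣ) : conj (α (u : F)) = α ((u⁻¹ : Fˣ) : F) := by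
  rw [← Ring.inverse_unit u, ← MulChar.inv_apply, ← MulChar.star_apply']
  rfl

theorem diag_upS_apply (a : Fˣ) (x : F) (i j : Fin 2) :
    ((diag a * upS x : SL(2, F)) : M₂) i j = !![(a : F), a * x; 0, ((a⁻¹ : Fˣ) : F)] i j := by
  rw [Matrix.SpecialLinearGroup.coe_mul, diag_coe, upS_coe]
  fin_cases i <;> fin_cases j <;> simp [Matrix.mul_apply]

/-- Sums over the Borel subgroup. -/
theorem sum_borelU (f : SL(2, F) → ℂ) :
    ∑ b : borelU F, f b = ∑ a : Fˣ, ∑ x : F, f (diag a * upS x) := by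
  rw [← Fintype.sum_prod_type (f := fun w : Fˣ × F => f (SL2.diag w.1 * upS w.2))]
  symm
  let e : Fˣ × F → borelU F := fun w => ⟨diag w.1 * upS w.2, by
    rw [borelU_eq_borel]; exact mul_mem (diag_mem_borel _) (upS_mem_borel _)⟩
  refine Fintype.sum_bijective e ⟨?_, ?_⟩ _ _ (fun _ => rfl)
  · rintro ⟨a, x⟩ ⟨a', x'⟩ h
    have h' : diag a * upS x = diag a' * upS x' := congrArg Subtype.val h
    have e0 := congrArg (fun y : SL(2, F) => (y : M₂) 0 0) h'
    simp only [diag_upS_apply] at e0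
    obtain rfl : a = a' := Units.ext (by simpa using e0)
    obtain rfl : x = x' := upS_injective (mul_left_cancel h')
    rfl
  · rintro ⟨g, hg⟩
    obtain ⟨a, x, hax, -⟩ := borel_exists (borelU_eq_borel (F := F) ▸ hg)
    exact ⟨(a, x), Subtype.ext hax.symm⟩

theorem card_borelU : (Nat.card (borelU F) : ℂ) = (Fintype.card F : ℂ) * ((Fintype.card F : ℂ) - 1) := by
  rw [borelU_eq_borel, card_borel, Nat.card_eq_fintype_card, Nat.cast_mul, Nat.cast_sub Fintype.card_pos,
    Nat.cast_one]

theorem borelU_scale_ne_zero : (Fintype.card F : ℂ) * ((Fintype.card F : ℂ) - 1) ≠ 0 :=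
  mul_ne_zero (Nat.cast_ne_zero.2 Fintype.card_ne_zero) card_sub_one_ne_zero

/-- Frobenius reciprocity for the principal series. -/
theorem classInner_principalSeries {χ : SL(2, F) → ℂ} (hχ : IsClassFunction _ χ) (α : MulChar F ℂ) :
    classInner χ (principalSeries α) = ((Fintype.card F : ℂ) * ((Fintype.card F : ℂ) - 1))⁻¹ *
      ∑ a : Fˣ, α ((a⁻¹ : Fˣ) : F) * ∑ x : F, χ (diag a * upS x) := by
  rw [Frobenius.classInner_indFun_right _ _ _ hχ, classInner, card_borelU]
  congr 1
  rw [sum_borelU (fun g => χ g * conj (α ((g : M₂) 0 0)))]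
  refine Finset.sum_congr rfl fun a _ => ?_
  rw [Finset.mul_sum]
  refine Finset.sum_congr rfl fun x _ => ?_
  rw [diag_upS_apply]
  simp [conj_mulChar]
  ring

theorem principalSeries_isChar (α : MulChar F ℂ) : IsCharacter (SL(2, F)) (principalSeries α) := by
  refine Frobenius.isCharacter_indFun _ _ ?_
  let μ : borelU F →* ℂ :=
    { toFun := borelChar α
      map_one' := by simp [borelChar]
      map_mul' := fun b c => by
        have hc : ((c : SL(2, F)) : M₂) 1 0 = 0 := mem_borelU.1 c.2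
        simp [borelChar, Matrix.mul_apply, hc, map_mul] }
  exact CharTheory.IsIrrCharacter.isCharacter (CharTheory.isIrrCharacter_linear μ.toHomUnits)

theorem principalSeries_isClassFun (α : MulChar F ℂ) : IsClassFunction (SL(2, F)) (principalSeries α) :=
  Frobenius.indFun_isClassFunction _ _

theorem diag_neg_one : SL2.diag (-1 : Fˣ) = (-1 : SL(2, F)) := by
  apply Subtype.ext
  rw [diag_coe]
  ext i j
  fin_cases i <;> fin_cases j <;> simp

theorem upS_zero' : upS (0 : F) = 1 := upS_zero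

theorem tr_diag_upS (a : Fˣ) (x : F) : tr (diag a * upS x) = (a : F) + ((a⁻¹ : Fˣ) : F) := by
  simp [tr, diag_upS_apply]

theorem tr_sq_ne_four_of_sq_ne_one {a : Fˣ} (ha : a ^ 2 ≠ 1) (x : F) : tr (diag a * upS x) ^ 2 ≠ 4 := by
  rw [tr_diag_upS]
  intro h
  apply ha
  have e : (a : F) * ((a⁻¹ : Fˣ) : F) = 1 := Units.mul_inv a
  have h2 : ((a : F) - ((a⁻¹ : Fˣ) : F)) ^ 2 = 0 := by linear_combination h - 4 * e
  have h3 := sub_eq_zero.1 ((pow_eq_zero_iff two_ne_zero).1 h2)
  apply Units.ext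
  rw [Units.val_pow_eq_pow_val, sq, Units.val_one]
  nth_rewrite 2 [h3]
  exact e

theorem classFun_diag_upS {χ : SL(2, F) → ℂ} (hχ : IsClassFunction _ χ) {a : Fˣ} (ha : a ^ 2 ≠ 1) (x : F) :
    χ (diag a * upS x) = χ (diag a) := by
  obtain ⟨k, hk⟩ := isConj_iff.1 (isConj_of_tr_eq (g := SL2.diag a) (h := SL2.diag a * upS x)
    (by simpa [upS_zero] using tr_sq_ne_four_of_sq_ne_one ha 0)
    (by rw [tr_diag_upS, ← tr_diag_upS a 0, upS_zero, mul_one]))
  rw [← hk, hχ]

noncomputable instance instFintypeMulChar : Fintype (MulChar F ℂ) := Fintype.ofFinite _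

theorem card_mulChar : Fintype.card (MulChar F ℂ) = Fintype.card F - 1 := by
  rw [← Nat.card_eq_fintype_card, MulChar.card_eq_card_units_of_hasEnoughRootsOfUnity,
    Nat.card_eq_fintype_card, Fintype.card_units]

theorem sum_mulChar (b : Fˣ) :
    ∑ α : MulChar F ℂ, α (b : F) = if b = 1 then ((Fintype.card F : ℂ) - 1) else 0 := by
  by_cases hb : b = 1
  · subst hb
    simp [card_mulChar, Nat.cast_sub (Fintype.card_pos (α := F))]
  · rw [if_neg hb]
    obtain ⟨φ, hφ⟩ := MulChar.exists_apply_ne_one_of_hasEnoughRootsOfUnity F ℂ (a := (b : F))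
      (fun h => hb (Units.ext h))
    have h1 : φ (b : F) * ∑ α : MulChar F ℂ, α (b : F) = ∑ α : MulChar F ℂ, α (b : F) := by
      rw [Finset.mul_sum]
      exact Fintype.sum_equiv (Equiv.mulLeft φ) _ _ fun α => (MulChar.mul_apply φ α _).symm
    by_contra hs
    exact hφ (mul_right_cancel₀ hs (h1.trans (one_mul _).symm))

/-- Values of a class function on the split torus. -/
theorem split_formula {χ : SL(2, F) → ℂ} (hχ : IsClassFunction _ χ) {a : Fˣ} (ha : a ^ 2 ≠ 1) :
    χ (diag a) = ∑ α : MulChar F ℂ, α (a : F) * classInner χ (principalSeries α) := by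
  have h : ∑ α : MulChar F ℂ, α (a : F) * classInner χ (principalSeries α) =
      ((Fintype.card F : ℂ) * ((Fintype.card F : ℂ) - 1))⁻¹ *
        ∑ b : Fˣ, (∑ α : MulChar F ℂ, α ((a * b⁻¹ : Fˣ) : F)) * ∑ x : F, χ (diag b * upS x) := by
    simp only [classInner_principalSeries hχ, Finset.mul_sum, Finset.sum_mul]
    rw [Finset.sum_comm]
    refine Finset.sum_congr rfl fun b _ => ?_
    rw [Finset.sum_comm]
    refine Finset.sum_congr rfl fun x _ => Finset.sum_congr rfl fun α _ => ?_
    rw [Units.val_mul, map_mul]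
    ring
  rw [h]
  simp only [sum_mulChar, mul_inv_eq_one, ite_mul, zero_mul]
  rw [Finset.sum_ite_eq, if_pos (Finset.mem_univ _),
    Finset.sum_congr rfl (fun x _ => classFun_diag_upS hχ ha x), Finset.sum_const, Finset.card_univ,
    nsmul_eq_mul]
  field_simp [borelU_scale_ne_zero, card_sub_one_ne_zero,
    (Nat.cast_ne_zero.2 Fintype.card_ne_zero : (Fintype.card F : ℂ) ≠ 0)]

/-- Sum over the unitriangular subgroup. -/
theorem unipotent_sum {χ : SL(2, F) → ℂ} (hχ : IsClassFunction _ χ) :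
    ∑ x : F, χ (upS x) = (Fintype.card F : ℂ) * ∑ α : MulChar F ℂ, classInner χ (principalSeries α) := by
  have h : ∑ α : MulChar F ℂ, classInner χ (principalSeries α) =
      ((Fintype.card F : ℂ) * ((Fintype.card F : ℂ) - 1))⁻¹ *
        ∑ b : Fˣ, (∑ α : MulChar F ℂ, α ((b⁻¹ : Fˣ) : F)) * ∑ x : F, χ (diag b * upS x) := by
    simp only [classInner_principalSeries hχ, Finset.mul_sum, Finset.sum_mul]
    rw [Finset.sum_comm]
    refine Finset.sum_congr rfl fun b _ => ?_
    rw [Finset.sum_comm]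
  rw [h]
  simp only [sum_mulChar, inv_eq_one, ite_mul, zero_mul]
  rw [Finset.sum_ite_eq', if_pos (Finset.mem_univ _), SL2.diag_one]
  simp only [one_mul]
  field_simp [borelU_scale_ne_zero, card_sub_one_ne_zero,
    (Nat.cast_ne_zero.2 Fintype.card_ne_zero : (Fintype.card F : ℂ) ≠ 0)]

/-! ## The non-split torus -/

section Torus

variable (C : Subgroup (SL(2, F)))

/-- Hypothesis: a cyclic subgroup of order `q + 1`, `q` odd. -/
structure NonsplitTorus : Prop where
  two_ne : (2 : F) ≠ 0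
  cyclic : IsCyclic C
  card : Nat.card C = Fintype.card F + 1

variable {C}

theorem NonsplitTorus.card_ge (hT : NonsplitTorus C) : 4 ≤ Nat.card C := by
  have := Fintype.one_lt_card (α := F)
  have := (odd_facts hT.two_ne).2.2
  rw [hT.card]
  omega

theorem NonsplitTorus.even_card (hT : NonsplitTorus C) : 2 ∣ Nat.card C := by
  have := (odd_facts hT.two_ne).2.2
  rw [hT.card]
  omega

theorem NonsplitTorus.exists_gen (hT : NonsplitTorus C) :
    ∃ g : C, (∀ x : C, x ∈ Subgroup.zpowers g) ∧ tr (g : SL(2, F)) ^ 2 ≠ 4 ∧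
      C = Subgroup.centralizer ({(g : SL(2, F))} : Set (SL(2, F))) ∧
      ∀ l : F, l * l ≠ tr (g : SL(2, F)) * l - 1 := by
  haveI := hT.cyclic
  obtain ⟨g, hg⟩ := IsCyclic.exists_generator (α := C)
  have hord : orderOf (g : SL(2, F)) = Fintype.card F + 1 := by
    rw [Subgroup.orderOf_coe, orderOf_eq_card_of_forall_mem_zpowers hg, hT.card]
  obtain ⟨p, hp, hchar, hdvd⟩ := exists_charP (F := F)
  haveI := Fact.mk hp
  rw [Nat.card_eq_fintype_card] at hdvd
  have h4 := hT.card_ge
  rw [hT.card] at h4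
  have ht : tr (g : SL(2, F)) ^ 2 ≠ 4 := by
    intro ht
    have h1 : Fintype.card F + 1 ∣ 2 * p :=
      hord ▸ orderOf_dvd_of_pow_eq_one (orderOf_dvd_of_tr_sq_eq (p := p) ht)
    have hcop : Nat.Coprime (Fintype.card F + 1) p := by
      refine Nat.Coprime.symm ((hp.coprime_iff_not_dvd).2 fun h => hp.not_dvd_one ?_)
      have := Nat.dvd_sub h hdvd
      rwa [Nat.add_sub_cancel_left] at this
    have := Nat.le_of_dvd two_pos (hcop.dvd_of_dvd_mul_right h1)
    omega
  have hle : C ≤ Subgroup.centralizer ({(g : SL(2, F))} : Set (SL(2, F))) := fun x hx => by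
    obtain ⟨k, hk⟩ := hg ⟨x, hx⟩
    rw [Subgroup.mem_centralizer_singleton_iff]
    have hk' : x = (g : SL(2, F)) ^ k := by
      have := congrArg Subtype.val hk
      simpa using this.symm
    rw [hk']
    exact ((Commute.refl (g : SL(2, F))).zpow_left k).eq
  have hdv := Subgroup.card_dvd_of_le hle
  rw [hT.card] at hdv
  have hq : Nat.card F = Fintype.card F := Nat.card_eq_fintype_card
  classical
  rw [card_centralizer ht] at hdv
  have hnr : ¬ ∃ l : F, l * l = tr (g : SL(2, F)) * l - 1 := by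
    intro h
    rw [if_pos h, hq] at hdv
    have := Nat.le_of_dvd (by omega) hdv
    omega
  refine ⟨g, hg, ht, Subgroup.eq_of_le_of_card_ge hle ?_, fun l hl => hnr ⟨l, hl⟩⟩
  rw [card_centralizer ht, if_neg hnr, hT.card, hq]

theorem NonsplitTorus.noncentral (hT : NonsplitTorus C) {c : SL(2, F)} (hc : c ∈ C)
    (hcn : c ∉ Subgroup.center (SL(2, F))) :
    tr c ^ 2 ≠ 4 ∧ Subgroup.centralizer ({c} : Set (SL(2, F))) = C ∧ ∀ l : F, l * l ≠ tr c * l - 1 := by
  obtain ⟨g, -, hg, hC, -⟩ := hT.exists_gen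
  have hCc : Subgroup.centralizer ({c} : Set (SL(2, F))) = C := by
    conv_rhs => rw [hC]
    exact centralizer_eq_of_mem (notMem_center_of_tr hg) (hC ▸ hc) hcn
  obtain ⟨hz, -, hodd⟩ := odd_facts hT.two_ne
  have hq : Nat.card F = Fintype.card F := Nat.card_eq_fintype_card
  have h4 := hT.card_ge
  rw [hT.card] at h4
  have ht : tr c ^ 2 ≠ 4 := by
    intro ht
    have := card_centralizer_tr_sq_eq hcn ht
    rw [hCc, hT.card, hz, hq] at this
    omega
  refine ⟨ht, hCc, fun l hl => ?_⟩
  classical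
  have := card_centralizer ht
  rw [if_pos ⟨l, hl⟩, hCc, hT.card, hq] at this
  omega

theorem NonsplitTorus.neg_one_mem (hT : NonsplitTorus C) : (-1 : SL(2, F)) ∈ C := by
  obtain ⟨c, hc⟩ := exists_prime_orderOf_dvd_card' (G := C) 2 hT.even_card
  have h1 : (c : SL(2, F)) ^ 2 = 1 := by
    have := pow_orderOf_eq_one (c : SL(2, F))
    rwa [Subgroup.orderOf_coe, hc] at this
  have h2 : (c : SL(2, F)) ≠ 1 := by
    intro h
    rw [← Subgroup.orderOf_coe, h, orderOf_one] at hc
    omega
  exact eq_neg_one_of_sq_eq_one hT.two_ne h1 h2 ▸ c.2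

theorem NonsplitTorus.center_le (hT : NonsplitTorus C) : Subgroup.center (SL(2, F)) ≤ C := fun z hz => by
  rcases (mem_center_iff z).1 hz with rfl | rfl
  · exact C.one_mem
  · exact hT.neg_one_mem

/-- The element `-1` of the torus. -/
def NonsplitTorus.negOne (hT : NonsplitTorus C) : C := ⟨-1, hT.neg_one_mem⟩

theorem NonsplitTorus.negOne_ne_one (hT : NonsplitTorus C) : hT.negOne ≠ 1 := fun h =>
  neg_one_ne_one hT.two_ne (congrArg Subtype.val h)

theorem NonsplitTorus.central_iff (hT : NonsplitTorus C) (c : C) :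
    (c : SL(2, F)) ∈ Subgroup.center (SL(2, F)) ↔ c = 1 ∨ c = hT.negOne := by
  rw [mem_center_iff]
  exact or_congr (Subtype.ext_iff (a1 := c) (a2 := 1)).symm (Subtype.ext_iff (a1 := c) (a2 := hT.negOne)).symm

theorem NonsplitTorus.theta_negOne (hT : NonsplitTorus C) (θ : C →* ℂˣ) :
    (θ hT.negOne).val = 1 ∨ (θ hT.negOne).val = -1 := by
  have h : hT.negOne * hT.negOne = 1 := Subtype.ext (by simp [NonsplitTorus.negOne])
  have h' : (θ hT.negOne).val * (θ hT.negOne).val = 1 := by
    rw [← Units.val_mul, ← map_mul, h, map_one, Units.val_one]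
  exact mul_self_eq_one_iff.1 h'

/-- The homomorphisms from the torus to `ℂˣ` are finitely many. -/
theorem NonsplitTorus.finite_hom (hT : NonsplitTorus C) : Finite (C →* ℂˣ) := by
  obtain ⟨g, hg, -⟩ := hT.exists_gen
  haveI : NeZero (Nat.card C) := ⟨Nat.card_pos.ne'⟩
  refine Finite.of_injective (fun θ : C →* ℂˣ => (⟨θ g, (mem_rootsOfUnity _ _).2 (by
    rw [← map_pow, pow_card_eq_one', map_one])⟩ : rootsOfUnity (Nat.card C) ℂ)) ?_
  intro θ φ h
  ext x
  obtain ⟨k, rfl⟩ := hg x
  rw [map_zpow, map_zpow, show θ g = φ g from congrArg Subtype.val h]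

end Torus

end CfsgLib.CharDegrees
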