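import Mathlib
import Cfsg.Agent.Lib.CharDegrees.SL2Table
import Cfsg.Agent.Lib.SL2.Normalizer
import Cfsg.Agent.Lib.CharTheory.Decomp
import Cfsg.Agent.Lib.Brauer.CharRing

/-!
The discrete series of `SL₂(q)`, `q` odd, as virtual characters, and their inner products.
-/

set_option autoImplicit false
set_option linter.unusedSectionVars false
set_option linter.style.haveILetI false

open Matrix Cfsg
open scoped MatrixGroups ComplexConjugate

namespace CfsgLib.CharDegrees

open CfsgLib.SL2
open CfsgLib.ClassicalLinear (upS upS_coe upS_add upS_injective)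

variable {F : Type*} [Field F] [Fintype F] [DecidableEq F]

local notation "M₂" => Matrix (Fin 2) (Fin 2) F

/-- The linear character as a function. -/
abbrev homFun {C : Subgroup (SL(2, F))} (θ : C →* ℂˣ) : C → ℂ := fun c => ((θ c : ℂˣ) : ℂ)

/-- The discrete series virtual character attached to `θ`; `α` is any character with the same
value at `-1`. -/
noncomputable def discSeries (C : Subgroup (SL(2, F))) (α : MulChar F ℂ) (θ : C →* ℂˣ) :
    SL(2, F) → ℂ :=
  fun g => (principalSeries 1 g - 2) * principalSeries α g - indFun C (homFun θ) g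

/-- The weight of a class function on the coset of the unitriangular group through `z`. -/
noncomputable def cosetWeight (χ : SL(2, F) → ℂ) (z : SL(2, F)) : ℂ :=
  (Fintype.card F : ℂ) * χ z - ∑ x : F, χ (z * upS x)

variable {C : Subgroup (SL(2, F))}

theorem conj_homFun (θ : C →* ℂˣ) (c : C) : conj (homFun θ c) = homFun θ c⁻¹ := by
  have hne : Nat.card C ≠ 0 := Nat.card_pos.ne'
  have h : (θ c : ℂ) ^ Nat.card C = 1 := by
    rw [← Units.val_pow_eq_pow_val, ← map_pow, pow_card_eq_one', map_one, Units.val_one]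
  rw [homFun, ← Complex.inv_eq_conj (Complex.norm_eq_one_of_pow_eq_one h hne)]
  simp [homFun]

namespace NonsplitTorus

variable (hT : NonsplitTorus C)
include hT

theorem finite_hom' : Finite (C →* ℂˣ) := hT.finite_hom

theorem classInner_hom [Fintype C] (θ φ : C →* ℂˣ) [Decidable (θ = φ)] :
    classInner (homFun θ) (homFun φ) = if θ = φ then 1 else 0 := by
  split_ifs with h
  · subst h
    exact CharTheory.classInner_self_of_isIrr (CharTheory.isIrrCharacter_linear θ)
  · exact CharTheory.classInner_eq_zero_of_ne (CharTheory.isIrrCharacter_linear θ)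
      (CharTheory.isIrrCharacter_linear φ) fun e => h (CharTheory.linear_inj e)

theorem exists_hom_ne_one {c : C} (hc : c ≠ 1) : ∃ θ : C →* ℂˣ, θ c ≠ 1 := by
  haveI := hT.cyclic
  letI : CommGroup C := IsCyclic.commGroup
  haveI : NeZero (Monoid.exponent C) := ⟨Monoid.exponent_ne_zero_of_finite⟩
  exact CommGroup.exists_apply_ne_one_of_hasEnoughRootsOfUnity C ℂ hc

theorem card_hom : Nat.card (C →* ℂˣ) = Fintype.card F + 1 := by
  haveI := hT.cyclic
  letI : CommGroup C := IsCyclic.commGroup
  haveI : NeZero (Monoid.exponent C) := ⟨Monoid.exponent_ne_zero_of_finite⟩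
  rw [← hT.card]
  exact Nat.card_congr (CommGroup.monoidHom_mulEquiv_of_hasEnoughRootsOfUnity C ℂ).some.toEquiv

theorem sum_hom [Fintype (C →* ℂˣ)] (c : C) [Decidable (c = 1)] :
    ∑ θ : C →* ℂˣ, homFun θ c = if c = 1 then (Fintype.card F : ℂ) + 1 else 0 := by
  split_ifs with hc
  · subst hc
    simp only [homFun, map_one, Units.val_one, Finset.sum_const, Finset.card_univ, nsmul_one]
    rw [← Nat.card_eq_fintype_card, hT.card_hom, Nat.cast_succ]
  · obtain ⟨φ, hφ⟩ := hT.exists_hom_ne_one hc
    have h1 : homFun φ c * ∑ θ : C →* ℂˣ, homFun θ c = ∑ θ : C →* ℂˣ, homFun θ c := by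
      rw [Finset.mul_sum]
      refine Fintype.sum_equiv (Equiv.mulLeft φ) _ _ fun θ => ?_
      simp [homFun]
    by_contra hs
    exact hφ (Units.ext (mul_right_cancel₀ hs (h1.trans (one_mul _).symm)))

/-- Expansion of a function on the torus in linear characters. -/
theorem fourier [Fintype C] [Fintype (C →* ℂˣ)] (f : C → ℂ) (c : C) :
    ∑ θ : C →* ℂˣ, homFun θ c * classInner f (homFun θ) = f c := by
  classical
  simp only [classInner, hT.card, Finset.mul_sum]
  rw [Finset.sum_comm]
  have h : ∀ d : C, ∑ θ : C →* ℂˣ,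
      homFun θ c * (((Fintype.card F + 1 : ℕ) : ℂ)⁻¹ * (f d * conj (homFun θ d))) =
      ((Fintype.card F + 1 : ℕ) : ℂ)⁻¹ * f d * ∑ θ : C →* ℂˣ, homFun θ (c * d⁻¹) := by
    intro d
    rw [Finset.mul_sum]
    refine Finset.sum_congr rfl fun θ _ => ?_
    rw [conj_homFun]
    simp [homFun]
    ring
  simp only [h, hT.sum_hom, mul_inv_eq_one, mul_ite, mul_zero]
  rw [Finset.sum_ite_eq, if_pos (Finset.mem_univ _)]
  have : (Fintype.card F : ℂ) + 1 ≠ 0 := Nat.cast_add_one_ne_zero _
  push_cast
  field_simp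

/-- The induced function on the centre. -/
theorem indFun_central (θ : C →* ℂˣ) {z : SL(2, F)} (hz : z ∈ Subgroup.center (SL(2, F))) :
    indFun C (homFun θ) z =
      (Fintype.card F : ℂ) * ((Fintype.card F : ℂ) - 1) * (θ ⟨z, hT.center_le hz⟩ : ℂ) := by
  have hx : ∀ x : SL(2, F), extendByZero C (homFun θ) (x⁻¹ * z * x) = (θ ⟨z, hT.center_le hz⟩ : ℂ) := by
    intro x
    rw [show x⁻¹ * z * x = z by rw [mul_assoc, ← Subgroup.mem_center_iff.1 hz x, inv_mul_cancel_left],
      Frobenius.extendByZero_of_mem _ _ (hT.center_le hz)]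
  have hG : (Nat.card (SL(2, F)) : ℂ) =
      (Fintype.card F : ℂ) * ((Fintype.card F : ℂ) ^ 2 - 1) := by
    rw [SL2.card_SL, Nat.card_eq_fintype_card, Nat.cast_mul,
      Nat.cast_sub (Nat.one_le_pow _ _ Fintype.card_pos), Nat.cast_pow, Nat.cast_one]
  rw [indFun, Finset.sum_congr rfl fun x _ => hx x, Finset.sum_const, Finset.card_univ, nsmul_eq_mul,
    ← Nat.card_eq_fintype_card, hG, hT.card]
  have : (Fintype.card F : ℂ) + 1 ≠ 0 := Nat.cast_add_one_ne_zero _
  push_cast
  field_simp
  ring

/-- The induced function at non-central elements of the torus. -/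
theorem indFun_torus (θ : C →* ℂˣ) (c : C) (hc : (c : SL(2, F)) ∉ Subgroup.center (SL(2, F))) :
    indFun C (homFun θ) c = (θ c : ℂ) + ((θ c)⁻¹ : ℂˣ) := by
  classical
  obtain ⟨ht, hC, -⟩ := hT.noncentral c.2 hc
  have htr : tr ((c : SL(2, F))⁻¹) = tr (c : SL(2, F)) := by
    simp [tr, Matrix.SpecialLinearGroup.coe_inv, adjugate_fin_two, add_comm]
  have hne : (c : SL(2, F))⁻¹ ≠ c := by
    intro h
    apply hc
    by_cases h1 : (c : SL(2, F)) = 1
    · rw [h1]; exact one_mem _
    · rw [eq_neg_one_of_sq_eq_one hT.two_ne (by rw [sq]; nth_rewrite 1 [← h]; exact inv_mul_cancel _) h1]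
      exact neg_one_mem_center
  have hcount : ∀ d : SL(2, F), IsConj (c : SL(2, F)) d →
      (Finset.univ.filter fun x : SL(2, F) => x⁻¹ * c * x = d).card = Fintype.card F + 1 := by
    intro d hd
    obtain ⟨k, hk⟩ := isConj_iff.1 hd
    rw [← hT.card, Nat.card_eq_fintype_card]
    symm
    refine Finset.card_bij (fun y _ => (y : SL(2, F)) * k⁻¹) (fun y _ => ?_)
      (fun a _ b _ h => Subtype.ext (mul_right_cancel h)) (fun x hx => ?_)
    · rw [Finset.mem_filter]
      refine ⟨Finset.mem_univ _, ?_⟩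
      have hy := y.2
      simp only [← hC, Subgroup.mem_centralizer_singleton_iff] at hy
      rw [← hk]
      simp only [_root_.mul_inv_rev, inv_inv, mul_assoc]
      congr 1
      rw [← mul_assoc (c : SL(2, F)), ← hy, mul_assoc, inv_mul_cancel_left]
    · refine ⟨⟨x * k, ?_⟩, Finset.mem_univ _, by simp⟩
      rw [← hC, Subgroup.mem_centralizer_singleton_iff]
      have h := (Finset.mem_filter.1 hx).2
      rw [← hk] at h
      calc x * k * (c : SL(2, F)) = x * (k * (c : SL(2, F)) * k⁻¹) * k := by group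
        _ = x * (x⁻¹ * (c : SL(2, F)) * x) * k := by rw [h]
        _ = (c : SL(2, F)) * (x * k) := by group
  have hx : ∀ x : SL(2, F), extendByZero C (homFun θ) (x⁻¹ * c * x) =
      (if x⁻¹ * c * x = c then (θ c : ℂ) else 0) +
        if x⁻¹ * c * x = (c : SL(2, F))⁻¹ then (((θ c)⁻¹ : ℂˣ) : ℂ) else 0 := by
    intro x
    by_cases hm : x⁻¹ * c * x ∈ C
    · rw [Frobenius.extendByZero_of_mem _ _ hm]
      have htx : tr (x⁻¹ * (c : SL(2, F)) * x) = tr (c : SL(2, F)) := by
        simp only [tr, ← Matrix.trace_fin_two, Matrix.SpecialLinearGroup.coe_mul]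
        rw [Matrix.trace_mul_comm, ← mul_assoc, ← Matrix.SpecialLinearGroup.coe_mul, mul_inv_cancel,
          Matrix.SpecialLinearGroup.coe_one, one_mul]
      rcases eq_or_eq_inv ht (by rw [hC]; exact hm) htx with e | e
      · rw [show (⟨x⁻¹ * c * x, hm⟩ : C) = c from Subtype.ext e, if_pos e, e, if_neg (Ne.symm hne),
          add_zero]
      · rw [show (⟨x⁻¹ * c * x, hm⟩ : C) = c⁻¹ from Subtype.ext e, if_pos e, e, if_neg hne, zero_add]
        simp [homFun]
    · rw [Frobenius.extendByZero_of_not_mem _ _ hm, if_neg (fun (e : x⁻¹ * c * x = c) => hm (by rw [e]; exact c.2)),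
        if_neg (fun (e : x⁻¹ * c * x = (c : SL(2, F))⁻¹) => hm (by rw [e]; exact inv_mem c.2)), add_zero]
  rw [indFun, Finset.sum_congr rfl fun x _ => hx x, Finset.sum_add_distrib, ← Finset.sum_filter,
    ← Finset.sum_filter, Finset.sum_const, Finset.sum_const, hcount _ (IsConj.refl _),
    hcount _ (isConj_of_tr_eq ht htr), hT.card,
    nsmul_eq_mul, nsmul_eq_mul, ← mul_add, ← mul_assoc, inv_mul_cancel₀, one_mul]
  exact Nat.cast_ne_zero.2 (Nat.succ_ne_zero _)

/-- The induced function away from the conjugates of the torus. -/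
theorem indFun_of_root (θ : C →* ℂˣ) {g : SL(2, F)} (hg : g ∉ Subgroup.center (SL(2, F)))
    {l : F} (hl : l * l = tr g * l - 1) : indFun C (homFun θ) g = 0 := by
  refine Frobenius.indFun_eq_zero_of_forall_conj_not_mem _ _ fun x hx => ?_
  have htx : tr (x⁻¹ * g * x) = tr g := by
    simp only [tr, ← Matrix.trace_fin_two, Matrix.SpecialLinearGroup.coe_mul]
    rw [Matrix.trace_mul_comm, ← mul_assoc, ← Matrix.SpecialLinearGroup.coe_mul, mul_inv_cancel,
      Matrix.SpecialLinearGroup.coe_one, one_mul]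
  have hn : x⁻¹ * g * x ∉ Subgroup.center (SL(2, F)) := fun h => hg (by
    have := Subgroup.Normal.conj_mem inferInstance _ h x
    simpa [mul_assoc] using this)
  exact (hT.noncentral hx hn).2.2 l (by rw [htx]; exact hl)

variable {α : MulChar F ℂ} {θ : C →* ℂˣ} (hα : α (-1) = (θ hT.negOne : ℂ))
include hα

theorem disc_central {z : SL(2, F)} (hz : z ∈ Subgroup.center (SL(2, F))) :
    discSeries C α θ z = ((Fintype.card F : ℂ) - 1) * (θ ⟨z, hT.center_le hz⟩ : ℂ) := by
  rw [discSeries, hT.indFun_central θ hz]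
  rcases (mem_center_iff z).1 hz with rfl | rfl
  · rw [principalSeries_upper 1 1 (by simp), principalSeries_upper α 1 (by simp)]
    simp only [Matrix.SpecialLinearGroup.coe_one, one_apply_eq, one_apply_ne (show (0 : Fin 2) ≠ 1 by decide),
      if_pos, map_one, mul_one]
    rw [show (⟨1, hT.center_le hz⟩ : C) = 1 from rfl, map_one, Units.val_one]
    ring
  · rw [principalSeries_upper 1 (-1) (by simp), principalSeries_upper α (-1) (by simp)]
    have h00 : ((-1 : SL(2, F)) : M₂) 0 0 = -1 := by simp
    have h11 : ((-1 : SL(2, F)) : M₂) 1 1 = -1 := by simp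
    have h01 : ((-1 : SL(2, F)) : M₂) 0 1 = 0 := by simp
    simp only [h00, h11, h01, if_pos, hα, MulChar.one_apply (isUnit_one.neg : IsUnit (-1 : F)), mul_one]
    rw [show (⟨-1, hT.center_le hz⟩ : C) = hT.negOne from rfl]
    ring

theorem disc_split (g : SL(2, F)) (h10 : (g : M₂) 1 0 = 0) (hne : (g : M₂) 0 0 ≠ (g : M₂) 1 1) :
    discSeries C α θ g = 0 := by
  have hg : g ∉ Subgroup.center (SL(2, F)) := fun h => hne ((mem_center_iff_isScalarMat g).1 h).2.2
  have hd := det_eq g
  rw [h10, mul_zero, sub_zero] at hd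
  rw [discSeries, hT.indFun_of_root θ hg (l := (g : M₂) 0 0)
      (by rw [tr]; linear_combination -hd),
    principalSeries_upper 1 g h10, if_neg hne,
    MulChar.one_apply (IsUnit.mk0 _ (left_ne_zero_of_mul_eq_one hd)),
    MulChar.one_apply (IsUnit.mk0 _ (right_ne_zero_of_mul_eq_one hd))]
  norm_num

theorem disc_upper (g : SL(2, F)) (h10 : (g : M₂) 1 0 = 0) (he : (g : M₂) 0 0 = (g : M₂) 1 1)
    (h01 : (g : M₂) 0 1 ≠ 0) :
    discSeries C α θ g = -α ((g : M₂) 0 0) := by
  have hg : g ∉ Subgroup.center (SL(2, F)) := fun h => h01 ((mem_center_iff_isScalarMat g).1 h).1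
  have hd := det_eq g
  rw [h10, mul_zero, sub_zero] at hd
  rw [discSeries, hT.indFun_of_root θ hg (l := (g : M₂) 0 0)
      (by rw [tr]; linear_combination -hd),
    principalSeries_upper 1 g h10, principalSeries_upper α g h10, if_pos he, if_pos he, if_neg h01,
    MulChar.one_apply (IsUnit.mk0 _ (left_ne_zero_of_mul_eq_one hd))]
  ring

theorem disc_torus (c : C) (hc : (c : SL(2, F)) ∉ Subgroup.center (SL(2, F))) :
    discSeries C α θ c = -((θ c : ℂ) + ((θ c)⁻¹ : ℂˣ)) := by
  obtain ⟨-, -, hroot⟩ := hT.noncentral c.2 hc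
  have h0 : ∀ β : MulChar F ℂ, principalSeries β (c : SL(2, F)) = 0 := fun β =>
    principalSeries_of_no_eigenvector β _ fun l v hv e => hroot l (eigen_root hv e)
  rw [discSeries, hT.indFun_torus θ c hc, h0, h0]
  ring
where
  eigen_root {g : SL(2, F)} {l : F} {v : Fin 2 → F} (hv : v ≠ 0) (e : (g : M₂) *ᵥ v = l • v) :
      l * l = tr g * l - 1 := by
    have hd := det_eq g
    have h0 := congrFun e 0
    have h1 := congrFun e 1
    simp [mulVec, dotProduct] at h0 h1
    have k0 : (l * l - tr g * l + 1) * v 0 = 0 := by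
      simp only [tr]
      linear_combination -l * h0 + (g : M₂) 1 1 * h0 - (g : M₂) 0 1 * h1 - v 0 * hd
    have k1 : (l * l - tr g * l + 1) * v 1 = 0 := by
      simp only [tr]
      linear_combination -l * h1 + (g : M₂) 0 0 * h1 - (g : M₂) 1 0 * h0 - v 1 * hd
    by_contra h
    have h' : l * l - tr g * l + 1 ≠ 0 := fun h' => h (by linear_combination h')
    exact hv (by ext i; fin_cases i; exacts [(mul_eq_zero.1 k0).resolve_left h', (mul_eq_zero.1 k1).resolve_left h'])

theorem disc_one : discSeries C α θ 1 = (Fintype.card F : ℂ) - 1 := by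
  rw [hT.disc_central hα (one_mem _), show (⟨1, hT.center_le (one_mem _)⟩ : C) = 1 from rfl, map_one,
    Units.val_one, mul_one]

theorem disc_isGen : IsGeneralizedCharacter (SL(2, F)) (discSeries C α θ) := by
  have h1 : IsGeneralizedCharacter (SL(2, F)) (fun g => principalSeries (1 : MulChar F ℂ) g - 2) :=
    ⟨_, (fun _ => (1 : ℂ)) + fun _ => (1 : ℂ), principalSeries_isChar 1,
      Coherence.isCharacter_add (CharTheory.IsIrrCharacter.isCharacter CharTheory.isIrrCharacter_one)
        (CharTheory.IsIrrCharacter.isCharacter CharTheory.isIrrCharacter_one),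
      by ext g; simp; norm_num⟩
  have h2 := CharTheory.isGeneralizedCharacter_mul h1
    (CharTheory.IsCharacter.isGeneralizedCharacter (principalSeries_isChar α))
  have h3 := CharTheory.IsCharacter.isGeneralizedCharacter (Frobenius.isCharacter_indFun C (homFun θ)
    (CharTheory.IsIrrCharacter.isCharacter (CharTheory.isIrrCharacter_linear θ)))
  exact Brauer.isGeneralizedCharacter_sub h2 h3

theorem disc_isClassFun : IsClassFunction (SL(2, F)) (discSeries C α θ) :=
  CharTheory.IsGeneralizedCharacter.isClassFunction (hT.disc_isGen hα)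

/-- Inner products with the discrete series. -/
theorem classInner_disc [Fintype C] {χ : SL(2, F) → ℂ} (hχ : IsClassFunction _ χ) :
    classInner χ (discSeries C α θ) =
      ((Fintype.card F : ℂ) * ((Fintype.card F : ℂ) - 1))⁻¹ *
        (cosetWeight χ 1 + (θ hT.negOne : ℂ) * cosetWeight χ (-1)) -
      classInner (fun c : C => χ c) (homFun θ) := by
  classical
  have hcl : IsClassFunction (SL(2, F)) (fun g => principalSeries (1 : MulChar F ℂ) g - 2) :=
    fun g h => by simp only [principalSeries_isClassFun 1 g h]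
  rw [show discSeries C α θ =
      indFun (borelU F) (fun b : borelU F => (principalSeries (1 : MulChar F ℂ) b - 2) * borelChar α b) -
        indFun C (homFun θ) from by
      rw [Brauer.indFun_res_mul (borelU F) (borelChar α) (φ := fun g => principalSeries (1 : MulChar F ℂ) g - 2) hcl]
      rfl,
    CharTheory.classInner_sub_right, Frobenius.classInner_indFun_right _ _ _ hχ,
    Frobenius.classInner_indFun_right _ _ _ hχ]
  congr 1
  rw [classInner, card_borelU]
  congr 1
  rw [sum_borelU (fun g => χ g * conj ((principalSeries (1 : MulChar F ℂ) g - 2) * α ((g : M₂) 0 0)))]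
  have hterm : ∀ (a : Fˣ) (x : F), χ (SL2.diag a * upS x) *
      conj ((principalSeries (1 : MulChar F ℂ) (SL2.diag a * upS x) - 2) * α (((SL2.diag a * upS x : SL(2, F)) : M₂) 0 0)) =
      if a ^ 2 = 1 then α ((a⁻¹ : Fˣ) : F) * (χ (SL2.diag a * upS x) *
        if x = 0 then (Fintype.card F : ℂ) - 1 else -1) else 0 := by
    intro a x
    rw [principalSeries_upper 1 _ (by rw [diag_upS_apply]; simp)]
    simp only [diag_upS_apply, of_apply, cons_val', cons_val_zero, cons_val_one, empty_val', cons_val_fin_one,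
      map_mul, map_sub, conj_mulChar, MulChar.one_apply (Units.isUnit _)]
    by_cases ha : a ^ 2 = 1
    · have hai : a⁻¹ = a := inv_eq_of_mul_eq_one_right (by rw [← sq]; exact ha)
      rw [if_pos ha, hai, if_pos rfl]
      by_cases hx : x = 0
      · simp [hx, map_ofNat]; ring
      · rw [if_neg hx, if_neg (mul_ne_zero a.ne_zero hx)]
        simp [map_ofNat]; ring
    · rw [if_neg ha, if_neg]
      · simp [map_ofNat]; norm_num
      · intro h
        refine ha ?_
        rw [sq]
        nth_rewrite 2 [Units.ext h]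
        exact mul_inv_cancel a
  simp only [hterm]
  rw [Finset.sum_congr rfl (g := fun a : Fˣ => if a ∈ ({1, -1} : Finset Fˣ) then
      ∑ x : F, α ((a⁻¹ : Fˣ) : F) * (χ (SL2.diag a * upS x) *
        if x = 0 then (Fintype.card F : ℂ) - 1 else -1) else 0) (fun a _ => by
      have hiff : a ∈ ({1, -1} : Finset Fˣ) ↔ a ^ 2 = 1 := by
        rw [Finset.mem_insert, Finset.mem_singleton, Units.ext_iff, Units.ext_iff, Units.ext_iff,
          Units.val_pow_eq_pow_val, Units.val_one, Units.val_neg, Units.val_one, sq_eq_one_iff]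
      by_cases ha : a ^ 2 = 1 <;> simp [hiff, ha]),
    Finset.sum_ite_mem, Finset.univ_inter]
  have hne : (1 : Fˣ) ≠ -1 := by
    intro h
    apply hT.two_ne
    have h' : (1 : F) = -1 := congrArg Units.val h
    linear_combination h'
  rw [Finset.sum_pair hne]
  have hsum : ∀ f : F → ℂ, ∑ x : F, f x * (if x = 0 then (Fintype.card F : ℂ) - 1 else -1) =
      (Fintype.card F : ℂ) * f 0 - ∑ x : F, f x := by
    intro f
    rw [Finset.sum_congr rfl (g := fun x => (if x = 0 then (Fintype.card F : ℂ) * f x else 0) - f x)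
      (fun x _ => by by_cases hx : x = 0 <;> simp [hx] <;> ring),
      Finset.sum_sub_distrib, Finset.sum_ite_eq', if_pos (Finset.mem_univ _)]
  simp only [← Finset.mul_sum, hsum, inv_one, Units.val_one, map_one, one_mul, SL2.diag_one,
    diag_neg_one, upS_zero, mul_one, inv_neg, Units.val_neg, hα, cosetWeight]

end NonsplitTorus

end CfsgLib.CharDegrees
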