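import Mathlib
import Cfsg.Agent.Lib.CharDegrees.SL2Discrete

/-!
Inner products and the classification of the irreducible characters of `SL₂(q)`, `q` odd.
-/

set_option autoImplicit false
set_option linter.unusedSectionVars false
set_option linter.style.haveILetI false

open Matrix Cfsg
open scoped MatrixGroups ComplexConjugate

namespace CfsgLib.CharDegrees

open CfsgLib.SL2
open CfsgLib.ClassicalLinear (upS upS_coe upS_add upS_injective)

section General

universe u
variable {G : Type u} [Group G] [Fintype G]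

theorem eq_zero_of_norm_zero {f : G → ℂ} (h : classInner f f = 0) : f = 0 := by
  rw [classInner, mul_eq_zero] at h
  rcases h with h | h
  · simp [Nat.card_pos.ne'] at h
  · simp only [Complex.mul_conj] at h
    rw [← Complex.ofReal_sum, Complex.ofReal_eq_zero,
      Finset.sum_eq_zero_iff_of_nonneg fun g _ => Complex.normSq_nonneg _] at h
    funext g
    exact Complex.normSq_eq_zero.1 (h g (Finset.mem_univ g))

theorem eq_of_classInner {f g : G → ℂ} (h1 : classInner f f = classInner f g)
    (h2 : classInner g g = classInner f g) : f = g := by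
  rw [← sub_eq_zero]
  refine eq_zero_of_norm_zero ?_
  rw [CharTheory.classInner_sub_left, CharTheory.classInner_sub_right, CharTheory.classInner_sub_right,
    CharTheory.classInner_conj_symm g f, ← h2, ← CharTheory.classInner_conj_symm g g, h1, ← h2]
  ring

theorem int_of_norm_two {θ χ : G → ℂ} (hθ : IsGeneralizedCharacter G θ) (h2 : classInner θ θ = 2)
    (hχ : IsIrrCharacter G χ) :
    classInner χ θ = 0 ∨ classInner χ θ = 1 ∨ classInner χ θ = -1 := by
  classical
  haveI := Fintype.ofFinite (IrrCharacter G)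
  obtain ⟨m, rfl⟩ := CharTheory.isGeneralizedCharacter_iff_exists_sum.1 hθ
  rw [CharTheory.classInner_generalized_sum] at h2
  have h2' : ∑ φ, m φ * m φ = 2 := by exact_mod_cast h2
  have hm : m ⟨χ, hχ⟩ * m ⟨χ, hχ⟩ ≤ 2 :=
    h2' ▸ Finset.single_le_sum (fun φ _ => mul_self_nonneg (m φ)) (Finset.mem_univ _)
  rw [CharTheory.classInner_conj_symm χ, CharTheory.classInner_sum_irr (fun φ => (m φ : ℂ)) ⟨χ, hχ⟩, map_intCast]
  have h' : m ⟨χ, hχ⟩ = 0 ∨ m ⟨χ, hχ⟩ = 1 ∨ m ⟨χ, hχ⟩ = -1 := by
    have : -2 < m ⟨χ, hχ⟩ ∧ m ⟨χ, hχ⟩ < 2 := ⟨by nlinarith, by nlinarith⟩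
    omega
  rcases h' with e | e | e <;> simp [e]

theorem classInner_irr_symm {χ θ : G → ℂ} (hχ : IsIrrCharacter G χ) (hθ : IsGeneralizedCharacter G θ) :
    classInner θ χ = classInner χ θ := by
  obtain ⟨z, hz⟩ := CharTheory.exists_classInner_eq_int (CharTheory.IsIrrCharacter.isGeneralizedCharacter hχ) hθ
  rw [CharTheory.classInner_conj_symm θ χ, hz, map_intCast]

end General

variable {F : Type*} [Field F] [Fintype F] [DecidableEq F]

local notation "M₂" => Matrix (Fin 2) (Fin 2) F

theorem q_ne_zero : (Fintype.card F : ℂ) ≠ 0 := Nat.cast_ne_zero.2 Fintype.card_ne_zero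

theorem sum_units_mulChar (γ : MulChar F ℂ) [Decidable (γ = 1)] :
    ∑ a : Fˣ, γ (a : F) = if γ = 1 then (Fintype.card F : ℂ) - 1 else 0 := by
  split_ifs with h
  · subst h
    simp [Fintype.card_units, Nat.cast_sub (Fintype.card_pos (α := F))]
  · have h0 := MulChar.sum_eq_zero_of_ne_one h
    rw [← Finset.add_sum_erase _ _ (Finset.mem_univ (0 : F)), MulChar.map_zero, zero_add] at h0
    rw [← h0]
    refine Finset.sum_bij (fun a _ => (a : F)) (by simp) (fun a _ b _ e => Units.ext e) ?_ (by simp)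
    intro x hx
    exact ⟨Units.mk0 x (Finset.ne_of_mem_erase hx), Finset.mem_univ _, rfl⟩

/-- Sums of the principal series over the cosets of the unitriangular group. -/
theorem sum_principalSeries (β : MulChar F ℂ) (a : Fˣ) :
    ∑ x : F, principalSeries β (SL2.diag a * upS x) =
      (Fintype.card F : ℂ) * (β (a : F) + β ((a⁻¹ : Fˣ) : F)) := by
  have h : ∀ x, principalSeries β (SL2.diag a * upS x) =
      if (a : F) = ((a⁻¹ : Fˣ) : F) then (if x = 0 then (Fintype.card F : ℂ) + 1 else 1) * β a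
      else β a + β ((a⁻¹ : Fˣ) : F) := by
    intro x
    rw [principalSeries_upper β _ (by rw [diag_upS_apply]; simp)]
    simp only [diag_upS_apply, of_apply, cons_val', cons_val_zero, cons_val_one, empty_val', cons_val_fin_one,
      mul_eq_zero, a.ne_zero, false_or]
  simp only [h]
  by_cases ha : (a : F) = ((a⁻¹ : Fˣ) : F)
  · simp only [if_pos ha, ← Finset.sum_mul]
    rw [Finset.sum_congr rfl (g := fun x : F => (1 : ℂ) + if x = 0 then (Fintype.card F : ℂ) else 0)
      (fun x _ => by by_cases hx : x = 0 <;> simp [hx, add_comm]), Finset.sum_add_distrib, Finset.sum_ite_eq',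
      if_pos (Finset.mem_univ _), Finset.sum_const, Finset.card_univ, ← ha]
    simp
    ring
  · simp only [if_neg ha, Finset.sum_const, Finset.card_univ, nsmul_eq_mul]

theorem classInner_ps_ps (β α : MulChar F ℂ) [Decidable (β = α)] [Decidable (β * α = 1)] :
    classInner (principalSeries β) (principalSeries α) =
      (if β = α then (1 : ℂ) else 0) + if β * α = 1 then (1 : ℂ) else 0 := by
  classical
  rw [classInner_principalSeries (principalSeries_isClassFun β)]
  simp only [sum_principalSeries, mul_add, Finset.sum_add_distrib]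
  have e1 : ∀ a : Fˣ, α ((a⁻¹ : Fˣ) : F) * ((Fintype.card F : ℂ) * β (a : F)) =
      (Fintype.card F : ℂ) * (α⁻¹ * β) (a : F) := by
    intro a
    rw [MulChar.mul_apply, MulChar.inv_apply, Ring.inverse_unit]
    ring
  have e2 : ∀ a : Fˣ, α ((a⁻¹ : Fˣ) : F) * ((Fintype.card F : ℂ) * β ((a⁻¹ : Fˣ) : F)) =
      (Fintype.card F : ℂ) * (α * β) ((a⁻¹ : Fˣ) : F) := by
    intro a
    rw [MulChar.mul_apply]
    ring
  have e3 : ∑ a : Fˣ, (α * β) ((a⁻¹ : Fˣ) : F) = ∑ a : Fˣ, (α * β) (a : F) :=
    Fintype.sum_equiv (Equiv.inv Fˣ) _ _ fun a => rfl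
  simp only [e1, e2, ← Finset.mul_sum]
  rw [e3, sum_units_mulChar, sum_units_mulChar]
  simp only [inv_mul_eq_one, eq_comm (a := α) (b := β), mul_comm α β]
  have := q_ne_zero (F := F)
  have := card_sub_one_ne_zero (F := F)
  split_ifs <;> field_simp <;> ring

theorem one_isClassFun : IsClassFunction (SL(2, F)) (fun _ => (1 : ℂ)) := fun _ _ => rfl

theorem classInner_one_ps (α : MulChar F ℂ) [Decidable (α = 1)] :
    classInner (fun _ : SL(2, F) => (1 : ℂ)) (principalSeries α) = if α = 1 then 1 else 0 := by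
  rw [classInner_principalSeries one_isClassFun]
  simp only [Finset.sum_const, Finset.card_univ, nsmul_eq_mul, mul_one]
  have e3 : ∑ a : Fˣ, α ((a⁻¹ : Fˣ) : F) = ∑ a : Fˣ, α (a : F) :=
    Fintype.sum_equiv (Equiv.inv Fˣ) _ _ fun a => rfl
  rw [← Finset.sum_mul, e3, sum_units_mulChar]
  have := q_ne_zero (F := F)
  have := card_sub_one_ne_zero (F := F)
  split_ifs <;> field_simp
  simp

theorem principalSeries_inv (α : MulChar F ℂ) : principalSeries α⁻¹ = principalSeries α := by
  classical
  refine eq_of_classInner ?_ ?_ <;> simp only [classInner_ps_ps] <;>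
    simp only [← sq, inv_pow, inv_eq_one, inv_mul_cancel, eq_self, if_true] <;>
    by_cases h : α ^ 2 = 1
  all_goals first
    | (have : α⁻¹ = α := inv_eq_of_mul_eq_one_right (by rwa [← sq]); simp [h, this]; done)
    | (have : α⁻¹ ≠ α := fun e => h (by rw [sq]; nth_rewrite 1 [← e]; exact inv_mul_cancel α)
       simp [h, this, Ne.symm this]; done)

theorem principalSeries_one_apply : principalSeries (1 : MulChar F ℂ) (1 : SL(2, F)) = (Fintype.card F : ℂ) + 1 := by
  rw [principalSeries_upper 1 1 (by simp)]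
  simp

theorem principalSeries_apply_one (α : MulChar F ℂ) : principalSeries α (1 : SL(2, F)) = (Fintype.card F : ℂ) + 1 := by
  rw [principalSeries_upper α 1 (by simp)]
  simp

/-- The only linear character meeting the principal series meets `principalSeries 1`. -/
theorem eq_one_of_linear (h2 : (2 : F) ≠ 0) {ψ : SL(2, F) → ℂ} (hψ : IsIrrCharacter _ ψ) (h1 : ψ 1 = 1)
    {α : MulChar F ℂ} (hr : classInner ψ (principalSeries α) ≠ 0) : α = 1 := by
  classical
  obtain ⟨μ, hμ⟩ := CharTheory.exists_hom_of_degree_one hψ h1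
  have hψ' : ∀ g, ψ g = (μ g : ℂ) := fun g => by rw [hμ]
  have hu : ∀ x : F, μ (upS x) = 1 := by
    by_contra hc
    push Not at hc
    obtain ⟨x₀, hx₀⟩ := hc
    apply hr
    rw [classInner_principalSeries (CharTheory.IsIrrCharacter.isClassFunction hψ), Finset.sum_eq_zero, mul_zero]
    intro a _
    have hz : ∑ x : F, (μ (upS x) : ℂ) = 0 := by
      have h : (μ (upS x₀) : ℂ) * ∑ x : F, (μ (upS x) : ℂ) = ∑ x : F, (μ (upS x) : ℂ) := by
        rw [Finset.mul_sum]
        exact Fintype.sum_equiv (Equiv.addLeft x₀) _ _ fun x => by simp [upS_add]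
      by_contra hs
      exact hx₀ (Units.ext (mul_right_cancel₀ hs (h.trans (one_mul _).symm)))
    simp [hψ', ← Finset.mul_sum, hz]
  let low : SL(2, F) := ⟨!![1, 0; 1, 1], by simp [det_fin_two_of]⟩
  have hlow : μ low = 1 := by
    have h : low * companion 0 = companion 0 * upS (-1) := by
      apply Subtype.ext
      rw [Matrix.SpecialLinearGroup.coe_mul, Matrix.SpecialLinearGroup.coe_mul, upS_coe]
      ext i j; fin_cases i <;> fin_cases j <;> simp [low, companion, Matrix.mul_apply]
    have := congrArg μ h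
    rw [map_mul, map_mul, hu, mul_one] at this
    exact mul_eq_right.1 this
  have hcomp : ∀ t : F, μ (companion t) = 1 := by
    intro t
    have h : companion t = upS (-1) * low * upS (t - 1) := by
      apply Subtype.ext
      rw [Matrix.SpecialLinearGroup.coe_mul, Matrix.SpecialLinearGroup.coe_mul, upS_coe, upS_coe]
      ext i j; fin_cases i <;> fin_cases j <;> simp [low, companion, Matrix.mul_apply]
    rw [h, map_mul, map_mul, hu, hu, hlow, mul_one, mul_one]
  have hdiag : ∀ a : Fˣ, μ (SL2.diag a) = 1 := by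
    intro a
    by_cases ha : a ^ 2 = 1
    · rcases (sq_eq_one_iff.1 (show (a : F) ^ 2 = 1 by rw [← Units.val_pow_eq_pow_val, ha, Units.val_one])) with e | e
      · rw [show a = 1 from Units.ext e, SL2.diag_one, map_one]
      · rw [show a = -1 from Units.ext (by simpa using e), diag_neg_one]
        have h : (companion (0 : F)) * companion 0 = -1 := by
          apply Subtype.ext
          rw [Matrix.SpecialLinearGroup.coe_mul]
          ext i j; fin_cases i <;> fin_cases j <;> simp [companion, Matrix.mul_apply]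
        rw [← h, map_mul, hcomp, mul_one]
    · obtain ⟨k, hk⟩ := isConj_iff.1 (isConj_companion (g := SL2.diag a)
        (by simpa [upS_zero] using tr_sq_ne_four_of_sq_ne_one ha 0))
      rw [← hk, map_mul, map_mul, hcomp, mul_one, ← map_mul, mul_inv_cancel, map_one]
  by_contra hα
  apply hr
  rw [classInner_principalSeries (CharTheory.IsIrrCharacter.isClassFunction hψ)]
  simp only [hψ', map_mul, hu, hdiag, Units.val_one, mul_one, Finset.sum_const, Finset.card_univ, nsmul_eq_mul]
  have e3 : ∑ a : Fˣ, α ((a⁻¹ : Fˣ) : F) = ∑ a : Fˣ, α (a : F) :=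
    Fintype.sum_equiv (Equiv.inv Fˣ) _ _ fun a => rfl
  rw [← Finset.sum_mul, e3, sum_units_mulChar, if_neg hα, zero_mul, mul_zero]

namespace NonsplitTorus

variable {C : Subgroup (SL(2, F))} (hT : NonsplitTorus C)
include hT

theorem exists_mulChar (θ : C →* ℂˣ) : ∃ α : MulChar F ℂ, α (-1) = (θ hT.negOne : ℂ) := by
  rcases hT.theta_negOne θ with h | h
  · exact ⟨1, by rw [h, MulChar.one_apply isUnit_one.neg]⟩
  · obtain ⟨α, hα⟩ := MulChar.exists_apply_ne_one_of_hasEnoughRootsOfUnity F ℂ (a := (-1 : F))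
      (fun e => hT.two_ne (by linear_combination -e))
    refine ⟨α, h ▸ ((mul_self_eq_one_iff.1 ?_).resolve_left hα)⟩
    rw [← map_mul, neg_mul_neg, one_mul, map_one]

/-- A character of the multiplicative group matching `θ` at `-1`. -/
noncomputable def matchChar (θ : C →* ℂˣ) : MulChar F ℂ := (hT.exists_mulChar θ).choose

theorem matchChar_spec (θ : C →* ℂˣ) : hT.matchChar θ (-1) = (θ hT.negOne : ℂ) :=
  (hT.exists_mulChar θ).choose_spec

/-- The discrete series virtual character of `θ`. -/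
noncomputable def dser (θ : C →* ℂˣ) : SL(2, F) → ℂ := discSeries C (hT.matchChar θ) θ

theorem dser_isGen (θ : C →* ℂˣ) : IsGeneralizedCharacter (SL(2, F)) (hT.dser θ) :=
  hT.disc_isGen (hT.matchChar_spec θ)

theorem dser_isClassFun (θ : C →* ℂˣ) : IsClassFunction (SL(2, F)) (hT.dser θ) :=
  hT.disc_isClassFun (hT.matchChar_spec θ)

theorem dser_one (θ : C →* ℂˣ) : hT.dser θ 1 = (Fintype.card F : ℂ) - 1 :=
  hT.disc_one (hT.matchChar_spec θ)

theorem dser_negOne (θ : C →* ℂˣ) :
    hT.dser θ (-1) = ((Fintype.card F : ℂ) - 1) * (θ hT.negOne : ℂ) :=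
  hT.disc_central (hT.matchChar_spec θ) neg_one_mem_center

theorem dser_torus (θ : C →* ℂˣ) (c : C) (hc : (c : SL(2, F)) ∉ Subgroup.center (SL(2, F))) :
    hT.dser θ c = -((θ c : ℂ) + ((θ c)⁻¹ : ℂˣ)) :=
  hT.disc_torus (hT.matchChar_spec θ) c hc

theorem dser_diag (θ : C →* ℂˣ) {a : Fˣ} (ha : a ^ 2 ≠ 1) (x : F) : hT.dser θ (SL2.diag a * upS x) = 0 := by
  refine hT.disc_split (hT.matchChar_spec θ) _ (by rw [diag_upS_apply]; simp) ?_
  intro e
  simp [diag_upS_apply] at e
  refine ha (Units.ext ?_)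
  rw [Units.val_pow_eq_pow_val, sq, Units.val_one]
  nth_rewrite 2 [e]
  exact mul_inv_cancel₀ a.ne_zero

theorem dser_upS (θ : C →* ℂˣ) {x : F} (hx : x ≠ 0) : hT.dser θ (upS x) = -1 := by
  rw [dser, hT.disc_upper (hT.matchChar_spec θ) (upS x) (by simp [upS_coe]) (by simp [upS_coe])
    (by simpa [upS_coe] using hx)]
  simp [upS_coe]

theorem dser_neg_upS (θ : C →* ℂˣ) {x : F} (hx : x ≠ 0) :
    hT.dser θ (-1 * upS x) = -(θ hT.negOne : ℂ) := by
  rw [dser, hT.disc_upper (hT.matchChar_spec θ) _ (by simp [upS_coe]) (by simp [upS_coe])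
    (by simpa [upS_coe] using hx)]
  simp [upS_coe, hT.matchChar_spec θ]

theorem weight_dser (θ : C →* ℂˣ) :
    cosetWeight (hT.dser θ) 1 = (Fintype.card F : ℂ) * ((Fintype.card F : ℂ) - 1) ∧
    cosetWeight (hT.dser θ) (-1) =
      (Fintype.card F : ℂ) * ((Fintype.card F : ℂ) - 1) * (θ hT.negOne : ℂ) := by
  constructor
  · rw [cosetWeight, Finset.sum_congr rfl (g := fun x : F => (if x = 0 then (Fintype.card F : ℂ) else 0) - 1)
      (fun x _ => by
        by_cases hx : x = 0
        · simp [hx, upS_zero, hT.dser_one]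
        · simp [hx, hT.dser_upS θ hx]),
      Finset.sum_sub_distrib, Finset.sum_ite_eq', if_pos (Finset.mem_univ _), hT.dser_one]
    simp
  · rw [cosetWeight, Finset.sum_congr rfl (g := fun x : F =>
        ((if x = 0 then (Fintype.card F : ℂ) else 0) - 1) * (θ hT.negOne : ℂ))
      (fun x _ => by
        by_cases hx : x = 0
        · simp [hx, upS_zero, hT.dser_negOne]
        · rw [hT.dser_neg_upS θ hx]; simp [hx]),
      ← Finset.sum_mul, Finset.sum_sub_distrib, Finset.sum_ite_eq', if_pos (Finset.mem_univ _), hT.dser_negOne]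
    simp
    ring

theorem conj_theta_negOne (θ : C →* ℂˣ) : conj (θ hT.negOne : ℂ) = (θ hT.negOne : ℂ) := by
  rcases hT.theta_negOne θ with h | h <;> simp [h]

theorem sum_central [Fintype C] (f : C → ℂ) [DecidableEq C] :
    (∑ c : C, if c = 1 ∨ c = hT.negOne then f c else 0) = f 1 + f hT.negOne := by
  rw [← Finset.sum_pair (f := f) hT.negOne_ne_one.symm]
  rw [← Finset.sum_filter]
  congr 1
  ext c
  simp

theorem dser_inner_ps (θ : C →* ℂˣ) (β : MulChar F ℂ) :
    classInner (principalSeries β) (hT.dser θ) = 0 := by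
  classical
  letI := Fintype.ofFinite C
  rw [dser, hT.classInner_disc (hT.matchChar_spec θ) (principalSeries_isClassFun β)]
  have hw1 : cosetWeight (principalSeries β) 1 = (Fintype.card F : ℂ) * ((Fintype.card F : ℂ) - 1) := by
    have := sum_principalSeries β (1 : Fˣ)
    simp [SL2.diag_one] at this
    rw [cosetWeight, principalSeries_apply_one]
    simp only [one_mul, this]
    ring
  have hβ2 : β (-1) * β (-1) = 1 := by rw [← map_mul, neg_mul_neg, one_mul, map_one]
  have hneg : principalSeries β (-1 : SL(2, F)) = ((Fintype.card F : ℂ) + 1) * β (-1) := by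
    rw [principalSeries_upper β (-1) (by simp)]
    simp
  have hw2 : cosetWeight (principalSeries β) (-1) =
      (Fintype.card F : ℂ) * ((Fintype.card F : ℂ) - 1) * β (-1) := by
    have := sum_principalSeries β (-1 : Fˣ)
    rw [diag_neg_one] at this
    rw [cosetWeight, hneg, this]
    simp
    ring
  have hC : classInner (fun c : C => principalSeries β c) (homFun θ) = 1 + β (-1) * (θ hT.negOne : ℂ) := by
    rw [classInner, hT.card, Finset.sum_congr rfl (g := fun c : C =>
      if c = 1 ∨ c = hT.negOne then principalSeries β c * conj (homFun θ c) else 0) (fun c _ => by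
        by_cases hc : c = 1 ∨ c = hT.negOne
        · rw [if_pos hc]
        · rw [if_neg hc, principalSeries_of_no_eigenvector, zero_mul]
          intro l v hv e
          exact (hT.noncentral c.2 (fun h => hc ((hT.central_iff c).1 h))).2.2 l
            (NonsplitTorus.disc_torus.eigen_root hv e)),
      hT.sum_central]
    simp only [OneMemClass.coe_one, homFun, map_one, Units.val_one, principalSeries_apply_one, hT.conj_theta_negOne]
    rw [show ((hT.negOne : C) : SL(2, F)) = -1 from rfl, hneg]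
    have : (Fintype.card F : ℂ) + 1 ≠ 0 := Nat.cast_add_one_ne_zero _
    push_cast
    field_simp
  rw [hw1, hw2, hC]
  have := q_ne_zero (F := F)
  have := card_sub_one_ne_zero (F := F)
  field_simp
  ring

theorem dser_inner (θ φ : C →* ℂˣ) [Decidable (θ = φ)] [Decidable (θ⁻¹ = φ)] :
    classInner (hT.dser θ) (hT.dser φ) = (if θ = φ then (1 : ℂ) else 0) + if θ⁻¹ = φ then (1 : ℂ) else 0 := by
  classical
  letI := Fintype.ofFinite C
  nth_rewrite 2 [dser]
  rw [hT.classInner_disc (hT.matchChar_spec φ) (hT.dser_isClassFun θ), (hT.weight_dser θ).1, (hT.weight_dser θ).2]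
  have hsplit : (fun c : C => hT.dser θ c) = (fun c : C =>
      if c = 1 ∨ c = hT.negOne then ((Fintype.card F : ℂ) + 1) * homFun θ c else 0) - homFun θ - homFun θ⁻¹ := by
    funext c
    simp only [Pi.sub_apply]
    have hinv : homFun θ⁻¹ c = (((θ c)⁻¹ : ℂˣ) : ℂ) := rfl
    by_cases hc : c = 1 ∨ c = hT.negOne
    · rw [if_pos hc, hinv]
      rcases hc with rfl | rfl
      · simp [homFun, hT.dser_one]
      · rw [show ((hT.negOne : C) : SL(2, F)) = -1 from rfl, hT.dser_negOne, Units.val_inv_eq_inv_val]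
        rcases hT.theta_negOne θ with h | h <;> simp [homFun, h] <;> ring
    · rw [if_neg hc, hT.dser_torus θ c (fun h => hc ((hT.central_iff c).1 h)), hinv]
      simp [homFun]; ring
  rw [hsplit, CharTheory.classInner_sub_left, CharTheory.classInner_sub_left, hT.classInner_hom,
    hT.classInner_hom]
  have hc : classInner (fun c : C => if c = 1 ∨ c = hT.negOne then
      ((Fintype.card F : ℂ) + 1) * homFun θ c else 0) (homFun φ) =
      1 + (θ hT.negOne : ℂ) * (φ hT.negOne : ℂ) := by
    rw [classInner, hT.card]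
    simp only [ite_mul, zero_mul]
    rw [hT.sum_central]
    simp only [homFun, map_one, Units.val_one, hT.conj_theta_negOne, mul_one]
    have : (Fintype.card F : ℂ) + 1 ≠ 0 := Nat.cast_add_one_ne_zero _
    push_cast
    field_simp
  rw [hc]
  have := q_ne_zero (F := F)
  have := card_sub_one_ne_zero (F := F)
  field_simp
  ring

theorem one_inner_dser (θ : C →* ℂˣ) [Decidable (θ = 1)] :
    classInner (fun _ : SL(2, F) => (1 : ℂ)) (hT.dser θ) = -(if θ = 1 then (1 : ℂ) else 0) := by
  classical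
  letI := Fintype.ofFinite C
  rw [dser, hT.classInner_disc (hT.matchChar_spec θ) one_isClassFun]
  have : (fun _ : C => (1 : ℂ)) = homFun (1 : C →* ℂˣ) := rfl
  rw [this, hT.classInner_hom]
  simp [cosetWeight, eq_comm (a := (1 : C →* ℂˣ))]

theorem dser_inv (θ : C →* ℂˣ) : hT.dser θ⁻¹ = hT.dser θ := by
  classical
  have e : θ⁻¹⁻¹ = θ := MonoidHom.ext fun c => inv_inv (θ c)
  refine eq_of_classInner ?_ ?_
  · simp only [hT.dser_inner, e]
    by_cases h : θ⁻¹ = θ
    · simp [h]
    · simp [h, Ne.symm h]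
  · simp only [hT.dser_inner, e]
    by_cases h : θ⁻¹ = θ
    · simp [h]
    · simp [h, Ne.symm h]

/-- The discrete series of the trivial character. -/
theorem dser_trivial : hT.dser 1 = fun g => principalSeries (1 : MulChar F ℂ) g - 2 := by
  classical
  have e : (fun g : SL(2, F) => principalSeries (1 : MulChar F ℂ) g - 2) =
      principalSeries (1 : MulChar F ℂ) - ((fun _ => (1 : ℂ)) + fun _ => (1 : ℂ)) := by
    funext g
    simp only [Pi.sub_apply, Pi.add_apply]
    norm_num
  have a1 : classInner (fun _ : SL(2, F) => (1 : ℂ)) (fun _ => (1 : ℂ)) = 1 :=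
    CharTheory.classInner_self_of_isIrr CharTheory.isIrrCharacter_one
  have a2 : classInner (fun _ : SL(2, F) => (1 : ℂ)) (principalSeries (1 : MulChar F ℂ)) = 1 := by
    rw [classInner_one_ps, if_pos rfl]
  have a3 : classInner (principalSeries (1 : MulChar F ℂ)) (fun _ : SL(2, F) => (1 : ℂ)) = 1 := by
    rw [CharTheory.classInner_conj_symm, a2, map_one]
  have a4 : classInner (hT.dser 1) (principalSeries (1 : MulChar F ℂ)) = 0 := by
    rw [CharTheory.classInner_conj_symm, hT.dser_inner_ps, map_zero]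
  have a5 : classInner (hT.dser 1) (fun _ : SL(2, F) => (1 : ℂ)) = -1 := by
    rw [CharTheory.classInner_conj_symm, hT.one_inner_dser, if_pos rfl, map_neg, map_one]
  have i1 : (1 : C →* ℂˣ)⁻¹ = 1 := MonoidHom.ext fun c => inv_one
  rw [e]
  refine eq_of_classInner ?_ ?_
  · rw [hT.dser_inner, CharTheory.classInner_sub_right, CharTheory.classInner_add_right, a4, a5,
      if_pos rfl, if_pos i1]
    ring
  · rw [CharTheory.classInner_sub_right, CharTheory.classInner_add_right, CharTheory.classInner_sub_left,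
      CharTheory.classInner_sub_left, CharTheory.classInner_sub_right, CharTheory.classInner_add_right,
      CharTheory.classInner_add_left, CharTheory.classInner_add_left, a1, a2, a3, a4, a5, classInner_ps_ps,
      if_pos rfl, one_mul, if_pos rfl]
    ring

/-- Values on the torus. -/
theorem elliptic_formula [Fintype (C →* ℂˣ)] {χ : SL(2, F) → ℂ} (hχ : IsClassFunction _ χ) (c : C)
    (hc : (c : SL(2, F)) ∉ Subgroup.center (SL(2, F))) :
    χ c = -∑ θ : C →* ℂˣ, (θ c : ℂ) * classInner χ (hT.dser θ) := by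
  classical
  letI := Fintype.ofFinite C
  have hc' := fun h => hc ((hT.central_iff c).2 h)
  have h0 : ∀ θ : C →* ℂˣ, (θ c : ℂ) * classInner χ (hT.dser θ) =
      (θ c : ℂ) * (((Fintype.card F : ℂ) * ((Fintype.card F : ℂ) - 1))⁻¹ *
        (cosetWeight χ 1 + (θ hT.negOne : ℂ) * cosetWeight χ (-1))) -
      homFun θ c * classInner (fun d : C => χ d) (homFun θ) := fun θ => by
    rw [dser, hT.classInner_disc (hT.matchChar_spec θ) hχ, mul_sub]
  simp only [h0, Finset.sum_sub_distrib, hT.fourier]
  have h : ∑ θ : C →* ℂˣ, (θ c : ℂ) * (((Fintype.card F : ℂ) * ((Fintype.card F : ℂ) - 1))⁻¹ *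
      (cosetWeight χ 1 + (θ hT.negOne : ℂ) * cosetWeight χ (-1))) =
      ((Fintype.card F : ℂ) * ((Fintype.card F : ℂ) - 1))⁻¹ *
        (cosetWeight χ 1 * ∑ θ : C →* ℂˣ, homFun θ c +
          cosetWeight χ (-1) * ∑ θ : C →* ℂˣ, homFun θ (c * hT.negOne)) := by
    simp only [Finset.mul_sum, ← Finset.sum_add_distrib]
    refine Finset.sum_congr rfl fun θ _ => ?_
    simp [homFun]
    ring
  have hne : c * hT.negOne ≠ 1 := fun e => hc' (Or.inr (by
    rw [mul_eq_one_iff_eq_inv.1 e, inv_eq_of_mul_eq_one_right]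
    exact Subtype.ext (by simp [NonsplitTorus.negOne])))
  rw [h, hT.sum_hom, hT.sum_hom, if_neg (fun e => hc' (Or.inl e)), if_neg hne]
  simp

/-- The degree from the inner products with both series. -/
theorem completeness [Fintype (C →* ℂˣ)] {χ : SL(2, F) → ℂ} (hχ : IsClassFunction _ χ) :
    2 * χ 1 = ((Fintype.card F : ℂ) + 1) * ∑ α : MulChar F ℂ, classInner χ (principalSeries α) +
      ((Fintype.card F : ℂ) - 1) * ∑ θ : C →* ℂˣ, classInner χ (hT.dser θ) := by
  classical
  letI := Fintype.ofFinite C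
  have h1 := hT.fourier (fun d : C => χ d) 1
  have hd : ∑ θ : C →* ℂˣ, classInner χ (hT.dser θ) =
      ((Fintype.card F : ℂ) * ((Fintype.card F : ℂ) - 1))⁻¹ * (((Fintype.card F : ℂ) + 1) * cosetWeight χ 1) - χ 1 := by
    simp only [dser, hT.classInner_disc (hT.matchChar_spec _) hχ, Finset.sum_sub_distrib]
    congr 1
    · rw [← Finset.mul_sum, Finset.sum_add_distrib, ← Finset.sum_mul]
      have h2 : ∑ θ : C →* ℂˣ, homFun θ hT.negOne = 0 := by rw [hT.sum_hom, if_neg hT.negOne_ne_one]
      simp only [homFun] at h2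
      rw [h2, zero_mul, add_zero, Finset.sum_const, Finset.card_univ, ← Nat.card_eq_fintype_card (α := C →* ℂˣ),
        hT.card_hom]
      simp
    · simpa [homFun] using h1
  rw [hd, cosetWeight]
  simp only [one_mul]
  rw [unipotent_sum hχ]
  have := q_ne_zero (F := F)
  have := card_sub_one_ne_zero (F := F)
  field_simp
  ring

theorem exists_quadratic_char :
    ∃ η : MulChar F ℂ, η ≠ 1 ∧ η⁻¹ = η ∧ (∀ α : MulChar F ℂ, α⁻¹ = α → α = 1 ∨ α = η) ∧
      ∀ a : Fˣ, η (a : F) = if IsSquare (a : F) then 1 else -1 := by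
  have hchar : ringChar F ≠ 2 := fun h => hT.two_ne (by
    haveI := ringChar.charP F
    exact_mod_cast (CharP.cast_eq_zero_iff F (ringChar F) 2).2 (by rw [h]))
  set η : MulChar F ℂ := (quadraticChar F).ringHomComp (Int.castRingHom ℂ) with hη
  have hval : ∀ a : Fˣ, η (a : F) = if IsSquare (a : F) then 1 else -1 := by
    intro a
    by_cases h : IsSquare (a : F)
    · rw [if_pos h, hη, MulChar.ringHomComp_apply, (quadraticChar_one_iff_isSquare a.ne_zero).2 h]
      simp
    · rw [if_neg h, hη, MulChar.ringHomComp_apply, quadraticChar_neg_one_iff_not_isSquare.2 h]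
      simp
  obtain ⟨g, hg⟩ := IsCyclic.exists_generator (α := Fˣ)
  have hext : ∀ α β : MulChar F ℂ, α (g : F) = β (g : F) → α = β := by
    intro α β h
    refine MulChar.ext fun a => ?_
    obtain ⟨k, hk⟩ := (mem_powers_iff_mem_zpowers).2 (hg a)
    rw [← hk, Units.val_pow_eq_pow_val, map_pow, map_pow, h]
  have hg2 : ∀ α : MulChar F ℂ, α⁻¹ = α → α (g : F) = 1 ∨ α (g : F) = -1 := by
    intro α h
    refine mul_self_eq_one_iff.1 ?_
    have : (α⁻¹ * α) (g : F) = 1 := by rw [inv_mul_cancel, MulChar.one_apply g.isUnit]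
    rwa [h, MulChar.mul_apply] at this
  have hinv : η⁻¹ = η := by
    refine MulChar.ext fun a => ?_
    rw [MulChar.inv_apply, Ring.inverse_unit, hval, hval]
    simp only [Units.val_inv_eq_inv_val, isSquare_inv]
  have hne : η ≠ 1 := by
    intro h
    obtain ⟨a, ha⟩ := FiniteField.exists_nonsquare hchar
    have ha0 : a ≠ 0 := fun e => ha (e ▸ IsSquare.zero)
    have := hval (Units.mk0 a ha0)
    rw [h, MulChar.one_apply (Units.isUnit _), Units.val_mk0, if_neg ha] at this
    norm_num at this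
  refine ⟨η, hne, hinv, fun α hα => ?_, hval⟩
  rcases hg2 α hα with h | h
  · exact Or.inl (hext α 1 (by rw [h, MulChar.one_apply g.isUnit]))
  · refine Or.inr (hext α η ?_)
    rw [h]
    refine ((hg2 η hinv).resolve_left fun e => hne (hext η 1 (by rw [e, MulChar.one_apply g.isUnit]))).symm

theorem exists_quadratic_hom :
    ∃ θ₀ : C →* ℂˣ, θ₀ ≠ 1 ∧ θ₀⁻¹ = θ₀ ∧ (∀ θ : C →* ℂˣ, θ⁻¹ = θ → θ = 1 ∨ θ = θ₀) ∧
      ∀ c : C, (θ₀ c : ℂ) = if c ^ ((Fintype.card F + 1) / 2) = 1 then 1 else -1 := by
  classical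
  haveI := hT.cyclic
  haveI := hT.finite_hom
  obtain ⟨g, hg, -⟩ := hT.exists_gen
  have hext : ∀ θ φ : C →* ℂˣ, θ g = φ g → θ = φ := by
    intro θ φ h
    ext x
    obtain ⟨k, rfl⟩ := hg x
    rw [map_zpow, map_zpow, h]
  have hg2 : ∀ θ : C →* ℂˣ, θ⁻¹ = θ → (θ g : ℂ) = 1 ∨ (θ g : ℂ) = -1 := by
    intro θ h
    refine mul_self_eq_one_iff.1 ?_
    have : (θ⁻¹) g * θ g = 1 := inv_mul_cancel (θ g)
    rw [h] at this
    rw [← Units.val_mul, this, Units.val_one]
  obtain ⟨θ₀, hθ₀⟩ := exists_prime_orderOf_dvd_card' (G := C →* ℂˣ) 2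
    (by rw [hT.card_hom, ← hT.card]; exact hT.even_card)
  have hne : θ₀ ≠ 1 := by
    intro h
    rw [h, orderOf_one] at hθ₀
    omega
  have hinv : θ₀⁻¹ = θ₀ := by
    have h := pow_orderOf_eq_one θ₀
    rw [hθ₀, sq] at h
    exact MonoidHom.ext fun x => inv_eq_of_mul_eq_one_right (DFunLike.congr_fun h x)
  have hgv : (θ₀ g : ℂ) = -1 :=
    (hg2 θ₀ hinv).resolve_left fun e => hne (hext θ₀ 1 (Units.ext e))
  refine ⟨θ₀, hne, hinv, fun θ hθ => ?_, fun c => ?_⟩
  · rcases hg2 θ hθ with h | h
    · exact Or.inl (hext θ 1 (Units.ext h))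
    · exact Or.inr (hext θ θ₀ (Units.ext (h.trans hgv.symm)))
  · obtain ⟨k, hk⟩ := (mem_powers_iff_mem_zpowers).2 (hg c)
    subst hk
    have hord : orderOf g = Fintype.card F + 1 := by
      rw [orderOf_eq_card_of_forall_mem_zpowers hg, hT.card]
    have heven := hT.even_card
    rw [hT.card] at heven
    obtain ⟨m, hm⟩ := heven
    have hiff : (g ^ k) ^ ((Fintype.card F + 1) / 2) = 1 ↔ Even k := by
      rw [← pow_mul, ← orderOf_dvd_iff_pow_eq_one, hord, hm, Nat.mul_div_cancel_left _ two_pos,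
        Nat.mul_dvd_mul_iff_right (by omega : 0 < m), even_iff_two_dvd]
    simp only [map_pow, Units.val_pow_eq_pow_val, hgv, hiff]
    by_cases hk : Even k
    · rw [if_pos hk, hk.neg_one_pow]
    · rw [if_neg hk, (Nat.not_even_iff_odd.1 hk).neg_one_pow]

/-- The classification of the irreducible characters. -/
theorem irr_cases [Fintype (C →* ℂˣ)] {η : MulChar F ℂ} (hη1 : η ≠ 1)
    (hηu : ∀ α : MulChar F ℂ, α⁻¹ = α → α = 1 ∨ α = η) (hηi : η⁻¹ = η)
    {θ₀ : C →* ℂˣ} (hθ1 : θ₀ ≠ 1) (hθu : ∀ θ : C →* ℂˣ, θ⁻¹ = θ → θ = 1 ∨ θ = θ₀) (hθi : θ₀⁻¹ = θ₀)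
    {χ : SL(2, F) → ℂ} (hχ : IsIrrCharacter (SL(2, F)) χ) :
    χ = (fun _ => 1) ∨
    χ = (fun g => principalSeries (1 : MulChar F ℂ) g - 1) ∨
    (∃ α : MulChar F ℂ, α⁻¹ ≠ α ∧ χ = principalSeries α) ∨
    (∃ θ : C →* ℂˣ, θ⁻¹ ≠ θ ∧ χ = hT.dser θ) ∨
    (2 * χ 1 = (Fintype.card F : ℂ) + 1 ∧ classInner χ (principalSeries η) = 1 ∧
      (∀ α, α ≠ η → classInner χ (principalSeries α) = 0) ∧ ∀ θ, classInner χ (hT.dser θ) = 0) ∨
    (2 * χ 1 = (Fintype.card F : ℂ) - 1 ∧ classInner χ (hT.dser θ₀) = 1 ∧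
      (∀ θ, θ ≠ θ₀ → classInner χ (hT.dser θ) = 0) ∧ ∀ α, classInner χ (principalSeries α) = 0) := by
  classical
  have hq : (1 : ℝ) < (Fintype.card F : ℝ) := by exact_mod_cast Fintype.one_lt_card
  have hR : ∀ α : MulChar F ℂ, IsGeneralizedCharacter (SL(2, F)) (principalSeries α) := fun α =>
    CharTheory.IsCharacter.isGeneralizedCharacter (principalSeries_isChar α)
  by_cases h3 : ∃ α : MulChar F ℂ, α⁻¹ ≠ α ∧ classInner χ (principalSeries α) ≠ 0
  · obtain ⟨α, hα, hr⟩ := h3
    refine Or.inr (Or.inr (Or.inl ⟨α, hα, ?_⟩))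
    by_contra hne
    refine hr (CharTheory.classInner_eq_zero_of_ne hχ ?_ hne)
    refine CharTheory.isIrrCharacter_of_norm_one (hR α) ?_ ?_
    · rw [classInner_ps_ps, if_pos rfl, if_neg (fun e => hα (inv_eq_of_mul_eq_one_right e)), add_zero]
    · rw [principalSeries_apply_one]; simp; positivity
  by_cases h4 : ∃ θ : C →* ℂˣ, θ⁻¹ ≠ θ ∧ classInner χ (hT.dser θ) ≠ 0
  · obtain ⟨θ, hθ, hd⟩ := h4
    refine Or.inr (Or.inr (Or.inr (Or.inl ⟨θ, hθ, ?_⟩)))
    by_contra hne
    refine hd (CharTheory.classInner_eq_zero_of_ne hχ ?_ hne)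
    refine CharTheory.isIrrCharacter_of_norm_one (hT.dser_isGen θ) ?_ ?_
    · rw [hT.dser_inner, if_pos rfl, if_neg hθ, add_zero]
    · rw [hT.dser_one]; simpa using hq
  have h1irr : IsIrrCharacter (SL(2, F)) (fun _ => (1 : ℂ)) := CharTheory.isIrrCharacter_one
  by_cases h1 : χ = fun _ => 1
  · exact Or.inl h1
  have hχ1 : classInner χ (fun _ => (1 : ℂ)) = 0 := CharTheory.classInner_eq_zero_of_ne hχ h1irr h1
  by_cases hr1 : classInner χ (principalSeries (1 : MulChar F ℂ)) = 0
  swap
  · refine Or.inr (Or.inl ?_)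
    by_contra hne
    apply hr1
    have hst : IsIrrCharacter (SL(2, F)) (principalSeries (1 : MulChar F ℂ) - fun _ => (1 : ℂ)) := by
      refine CharTheory.isIrrCharacter_of_norm_one
        (Brauer.isGeneralizedCharacter_sub (hR 1) (CharTheory.IsIrrCharacter.isGeneralizedCharacter h1irr)) ?_ ?_
      · rw [CharTheory.classInner_sub_left, CharTheory.classInner_sub_right, CharTheory.classInner_sub_right,
          classInner_ps_ps, if_pos rfl, one_mul, if_pos rfl, classInner_one_ps, if_pos rfl,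
          classInner_irr_symm h1irr (hR 1), classInner_one_ps, if_pos rfl,
          CharTheory.classInner_self_of_isIrr h1irr]
        ring
      · simp [principalSeries_apply_one]; positivity
    have h0 := CharTheory.classInner_eq_zero_of_ne hχ hst hne
    rw [CharTheory.classInner_sub_right, hχ1, sub_zero] at h0
    exact h0
  push Not at h3 h4
  have hr0 : ∀ α, α ≠ η → classInner χ (principalSeries α) = 0 := by
    intro α hα
    by_cases h : α⁻¹ = α
    · rcases hηu α h with rfl | rfl
      exacts [hr1, absurd rfl hα]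
    · exact h3 α h
  have hd1 : classInner χ (hT.dser 1) = 0 := by
    rw [hT.dser_trivial, show (fun g => principalSeries (1 : MulChar F ℂ) g - 2) =
      principalSeries (1 : MulChar F ℂ) - ((fun _ => (1 : ℂ)) + fun _ => (1 : ℂ)) from by
        funext g; simp only [Pi.sub_apply, Pi.add_apply]; norm_num,
      CharTheory.classInner_sub_right, CharTheory.classInner_add_right, hr1, hχ1]
    ring
  have hd0 : ∀ θ, θ ≠ θ₀ → classInner χ (hT.dser θ) = 0 := by
    intro θ hθ
    by_cases h : θ⁻¹ = θ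
    · rcases hθu θ h with rfl | rfl
      exacts [hd1, absurd rfl hθ]
    · exact h4 θ h
  have hcomp := hT.completeness (CharTheory.IsIrrCharacter.isClassFunction hχ)
  rw [Finset.sum_eq_single η (fun α _ hα => hr0 α hα) (by simp),
    Finset.sum_eq_single θ₀ (fun θ _ hθ => hd0 θ hθ) (by simp)] at hcomp
  have nη : classInner (principalSeries η) (principalSeries η) = 2 := by
    rw [classInner_ps_ps, if_pos rfl, if_pos (by nth_rewrite 1 [← hηi]; exact inv_mul_cancel η)]
    norm_num
  obtain ⟨k, hk⟩ : ∃ k : ℕ, classInner χ (principalSeries η) = k := by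
    obtain ⟨k, hk⟩ := CharTheory.IsCharacter.exists_classInner_eq_nat (principalSeries_isChar η) ⟨χ, hχ⟩
    exact ⟨k, (classInner_irr_symm hχ (hR η)).symm.trans hk⟩
  obtain ⟨n, hn, hn'⟩ := CharTheory.exists_degree_of_isIrr hχ
  rcases int_of_norm_two (hR η) nη hχ with hr | hr | hr <;>
    rcases int_of_norm_two (hT.dser_isGen θ₀) (by
      rw [hT.dser_inner, if_pos rfl, if_pos hθi]; norm_num) hχ with hd | hd | hd <;>
    rw [hr, hd] at hcomp
  · exact absurd (mul_left_cancel₀ two_ne_zero (hcomp.trans (by ring : _ = (2 : ℂ) * 0))) (CharTheory.apply_one_ne_zero_of_isIrr hχ)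
  · refine Or.inr (Or.inr (Or.inr (Or.inr (Or.inr ⟨by linear_combination hcomp, hd, hd0, fun α => ?_⟩))))
    by_cases hα : α = η
    · rw [hα, hr]
    · exact hr0 α hα
  · exfalso
    rw [hn'] at hcomp
    have : ((2 * n + Fintype.card F : ℕ) : ℂ) = ((1 : ℕ) : ℂ) := by push_cast; linear_combination hcomp
    have h' := Nat.cast_injective this
    have := Fintype.one_lt_card (α := F)
    omega
  · refine Or.inr (Or.inr (Or.inr (Or.inr (Or.inl ⟨by linear_combination hcomp, hr, hr0, fun θ => ?_⟩))))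
    by_cases hθ : θ = θ₀
    · rw [hθ, hd]
    · exact hd0 θ hθ
  · exfalso
    apply hη1
    have hdeg : χ 1 = (Fintype.card F : ℂ) := mul_left_cancel₀ two_ne_zero (by linear_combination hcomp)
    have hirr : IsIrrCharacter (SL(2, F)) (principalSeries η - χ) := by
      refine CharTheory.isIrrCharacter_of_norm_one
        (Brauer.isGeneralizedCharacter_sub (hR η) (CharTheory.IsIrrCharacter.isGeneralizedCharacter hχ)) ?_ ?_
      · rw [CharTheory.classInner_sub_left, CharTheory.classInner_sub_right, CharTheory.classInner_sub_right,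
          nη, classInner_irr_symm hχ (hR η), hr, CharTheory.classInner_self_of_isIrr hχ]
        ring
      · simp [principalSeries_apply_one, hdeg]
    refine eq_one_of_linear hT.two_ne hirr (by simp [principalSeries_apply_one, hdeg]) ?_
    rw [CharTheory.classInner_sub_left, nη, hr]
    norm_num
  · exfalso
    exact hη1 (eq_one_of_linear hT.two_ne hχ (mul_left_cancel₀ two_ne_zero (by linear_combination hcomp))
      (by rw [hr]; exact one_ne_zero))
  all_goals
    exfalso
    rw [hr] at hk
    have : ((k + 1 : ℕ) : ℂ) = ((0 : ℕ) : ℂ) := by push_cast; linear_combination -hk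
    exact absurd (Nat.cast_injective this) (by omega)

end NonsplitTorus

end CfsgLib.CharDegrees
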