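import Mathlib
import Cfsg.Agent.Lib.CharDegrees.SL2Spectrum

/-!
The irreducible characters of `SL₂(q)`, `q` odd: degrees and values on the three kinds of
regular elements.
-/

set_option autoImplicit false
set_option linter.unusedSectionVars false
set_option linter.style.haveILetI false

open Matrix Cfsg
open scoped MatrixGroups ComplexConjugate

namespace CfsgLib.CharDegrees

open CfsgLib.SL2
open CfsgLib.ClassicalLinear (upS upS_coe upS_add upS_injective)

/-- Central elements act on an irreducible character by a scalar. -/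
theorem apply_central_mul {G : Type*} [Group G] {χ : G → ℂ} (hχ : IsIrrCharacter G χ) {z : G}
    (hz : z ∈ Subgroup.center G) (g : G) : χ 1 * χ (z * g) = χ z * χ g := by
  obtain ⟨n, ρ, hρ, rfl⟩ := hχ
  obtain ⟨c, hc⟩ := CharTheory.exists_smul_of_commute ρ (ρ z) (fun h => by
    change ρ z * ρ h = ρ h * ρ z
    rw [← map_mul, ← map_mul, Subgroup.mem_center_iff.1 hz h])
  have h : ∀ h : G, ρ.character (z * h) = c * ρ.character h := by
    intro h
    rw [Representation.character, Representation.character, map_mul, hc]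
    change LinearMap.trace ℂ _ ((c • LinearMap.id) ∘ₗ ρ h) = _
    rw [LinearMap.smul_comp, LinearMap.id_comp, map_smul, smul_eq_mul]
  have h1 := h 1
  rw [mul_one] at h1
  rw [h g, h1]
  ring

variable {F : Type*} [Field F] [Fintype F] [DecidableEq F]

local notation "M₂" => Matrix (Fin 2) (Fin 2) F

omit [DecidableEq F] in
theorem two_ne_zero_of_odd_card (hodd : Odd (Fintype.card F)) : (2 : F) ≠ 0 := fun h => by
  have h' := (char_two_facts h).2.2
  rw [Nat.odd_iff] at hodd
  omega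

theorem exists_nonsplitTorus (h2 : (2 : F) ≠ 0) : ∃ C : Subgroup (SL(2, F)), NonsplitTorus C := by
  have h1 := Fintype.one_lt_card (α := F)
  obtain ⟨g, -, hg, -⟩ := exists_torus_generator (F := F) (e := Nat.card F + 1) (Or.inr rfl)
    (by rw [Nat.card_eq_fintype_card]; omega)
  exact ⟨Subgroup.zpowers g, h2, inferInstance, by rw [Nat.card_zpowers, hg, Nat.card_eq_fintype_card]⟩

/-- An element without eigenvector is conjugate into any non-split torus. -/
theorem NonsplitTorus.exists_conj {C : Subgroup (SL(2, F))} (hT : NonsplitTorus C) {g : SL(2, F)}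
    (hg : ∀ (c : F) (v : Fin 2 → F), v ≠ 0 → (g : M₂) *ᵥ v ≠ c • v) :
    ∃ k : SL(2, F), ∃ h : k * g * k⁻¹ ∈ C, k * g * k⁻¹ ∉ Subgroup.center (SL(2, F)) := by
  classical
  have hcen : g ∉ Subgroup.center (SL(2, F)) := by
    intro h
    obtain ⟨h01, h10, h00⟩ := (mem_center_iff_isScalarMat g).1 h
    refine hg ((g : M₂) 0 0) (Pi.single 0 1) (by simp) ?_
    ext i; fin_cases i <;> simp [mulVec_single, h10]
  have hroot : ∀ l : F, l * l ≠ tr g * l - 1 := by
    intro l hl
    have hd := det_eq g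
    by_cases hb : (g : M₂) 0 1 = 0
    · refine hg ((g : M₂) 1 1) (Pi.single 1 1) (by simp) ?_
      ext i; fin_cases i <;> simp [mulVec_single, hb]
    · refine hg l ![(g : M₂) 0 1, l - (g : M₂) 0 0] (fun h => hb (by simpa using congrFun h 0)) ?_
      ext i; fin_cases i <;> simp [mulVec, dotProduct] <;> simp only [tr] at hl <;>
        first
        | ring1
        | linear_combination -hl - hd
        | linear_combination hl + hd
  have ht : tr g ^ 2 ≠ 4 := by
    intro ht
    refine hroot (tr g / 2) ?_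
    have := hT.two_ne
    field_simp
    linear_combination -ht
  obtain ⟨c, -, htc, hC, hrc⟩ := hT.exists_gen
  obtain ⟨k, hk⟩ := centralizer_conj_of_card_eq (g := g) (h := (c : SL(2, F))) ht htc (by
    rw [card_centralizer ht, card_centralizer htc, if_neg (fun ⟨l, hl⟩ => hroot l hl),
      if_neg (fun ⟨l, hl⟩ => hrc l hl)])
  refine ⟨k, ?_, fun h => hcen ?_⟩
  · rw [hC]
    exact (hk g).1 (Subgroup.mem_centralizer_singleton_iff.2 rfl)
  · have := Subgroup.Normal.conj_mem inferInstance _ h k⁻¹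
    simpa [mul_assoc] using this

theorem diag_mk0_eq {g : SL(2, F)} (h01 : (g : M₂) 0 1 = 0) (h10 : (g : M₂) 1 0 = 0) (h0 : (g : M₂) 0 0 ≠ 0) :
    g = SL2.diag (Units.mk0 _ h0) := by
  have hd := det_eq g
  rw [h10, mul_zero, sub_zero] at hd
  apply Subtype.ext
  rw [diag_coe]
  ext i j
  fin_cases i <;> fin_cases j <;> simp [h01, h10]
  exact eq_inv_of_mul_eq_one_right hd

/-- The values of the sum over the upper unitriangular group. -/
theorem sum_unitriangular {χ : SL(2, F) → ℂ} :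
    (∑ g : SL(2, F), if (g : M₂) 1 0 = 0 ∧ (g : M₂) 0 0 = 1 ∧ (g : M₂) 1 1 = 1 then χ g else 0) =
      ∑ x : F, χ (upS x) := by
  rw [← Finset.sum_filter]
  symm
  refine Finset.sum_bij (fun x _ => upS x) (fun x _ => by simp [upS_coe]) (fun a _ b _ h => upS_injective h)
    (fun g hg => ?_) (fun x _ => rfl)
  obtain ⟨h10, h00, h11⟩ := (Finset.mem_filter.1 hg).2
  refine ⟨(g : M₂) 0 1, Finset.mem_univ _, Subtype.ext ?_⟩
  rw [upS_coe]
  ext i j; fin_cases i <;> fin_cases j <;> simp [h10, h00, h11]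

theorem NonsplitTorus.irr_trichotomy {C : Subgroup (SL(2, F))} (hT : NonsplitTorus C) [Fintype (C →* ℂˣ)]
    {χ : SL(2, F) → ℂ} (hχ : IsIrrCharacter (SL(2, F)) χ) :
    (χ 1 = 1 ∧ ∑ α : MulChar F ℂ, classInner χ (principalSeries α) = 1) ∨
    (χ 1 = (Fintype.card F : ℂ) ∧ ∑ α : MulChar F ℂ, classInner χ (principalSeries α) = 1) ∨
    (χ 1 = (Fintype.card F : ℂ) + 1 ∧ ∑ α : MulChar F ℂ, classInner χ (principalSeries α) = 2) ∨
    (∃ θ : C →* ℂˣ, θ⁻¹ ≠ θ ∧ χ = hT.dser θ ∧ χ 1 = (Fintype.card F : ℂ) - 1 ∧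
      ∑ α : MulChar F ℂ, classInner χ (principalSeries α) = 0) ∨
    (2 * χ 1 = (Fintype.card F : ℂ) + 1 ∧ ∑ α : MulChar F ℂ, classInner χ (principalSeries α) = 1 ∧
      (∀ θ, classInner χ (hT.dser θ) = 0) ∧
      ∀ a : Fˣ, a ^ 2 ≠ 1 → χ (SL2.diag a) = if IsSquare (a : F) then 1 else -1) ∨
    (2 * χ 1 = (Fintype.card F : ℂ) - 1 ∧ ∑ α : MulChar F ℂ, classInner χ (principalSeries α) = 0 ∧
      ∀ c : C, (c : SL(2, F)) ∉ Subgroup.center (SL(2, F)) →
        χ c = if c ^ ((Fintype.card F + 1) / 2) = 1 then -1 else 1) := by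
  classical
  obtain ⟨η, hη1, hηi, hηu, hηv⟩ := hT.exists_quadratic_char
  obtain ⟨θ₀, hθ1, hθi, hθu, hθv⟩ := hT.exists_quadratic_hom
  have hcl := CharTheory.IsIrrCharacter.isClassFunction hχ
  rcases hT.irr_cases hη1 hηu hηi hθ1 hθu hθi hχ with h | h | ⟨α, hα, h⟩ | ⟨θ, hθ, h⟩ | ⟨h, hr, hr0, hd⟩ | ⟨h, hd, hd0, hr⟩
  · refine Or.inl ⟨by rw [h], ?_⟩
    subst h
    simp [classInner_one_ps]
  · refine Or.inr (Or.inl ⟨by rw [h]; simp [principalSeries_apply_one], ?_⟩)
    subst h
    simp only [show (fun g : SL(2, F) => principalSeries (1 : MulChar F ℂ) g - 1) =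
      principalSeries (1 : MulChar F ℂ) - fun _ => (1 : ℂ) from rfl, CharTheory.classInner_sub_left,
      classInner_ps_ps, classInner_one_ps, one_mul, eq_comm (a := (1 : MulChar F ℂ))]
    simp
  · refine Or.inr (Or.inr (Or.inl ⟨by rw [h]; simp [principalSeries_apply_one], ?_⟩))
    subst h
    simp only [classInner_ps_ps, Finset.sum_add_distrib, mul_eq_one_iff_inv_eq]
    simp
    norm_num
  · refine Or.inr (Or.inr (Or.inr (Or.inl ⟨θ, hθ, h, by rw [h, hT.dser_one], ?_⟩)))
    subst h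
    refine Finset.sum_eq_zero fun α _ => ?_
    rw [CharTheory.classInner_conj_symm, hT.dser_inner_ps, map_zero]
  · refine Or.inr (Or.inr (Or.inr (Or.inr (Or.inl ⟨h, ?_, hd, fun a ha => ?_⟩))))
    · rw [Finset.sum_eq_single η (fun α _ hα => hr0 α hα) (by simp), hr]
    · rw [split_formula hcl ha, Finset.sum_eq_single η (fun α _ hα => by rw [hr0 α hα, mul_zero]) (by simp),
        hr, mul_one, hηv]
  · refine Or.inr (Or.inr (Or.inr (Or.inr (Or.inr ⟨h, Finset.sum_eq_zero fun α _ => hr α, fun c hc => ?_⟩))))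
    rw [hT.elliptic_formula hcl c hc, Finset.sum_eq_single θ₀ (fun θ _ hθ => by rw [hd0 θ hθ, mul_zero]) (by simp),
      hd, mul_one, hθv]
    split_ifs <;> norm_num

end CfsgLib.CharDegrees
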