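import Mathlib
import Cfsg.Agent.Lib.CharDegrees.SL2Classify
import Cfsg.Agent.Lib.ZerosCodegree.CharBasics

/-!
Counting the irreducible characters of `SL₂(q)`, `q` odd, by degree.
-/

set_option autoImplicit false
set_option linter.unusedSectionVars false
set_option linter.style.haveILetI false

open Matrix Cfsg
open scoped MatrixGroups ComplexConjugate

namespace CfsgLib.CharDegrees

open CfsgLib.SL2

section General

universe u
variable {G : Type u} [Group G] [Fintype G]

theorem sum_mul_classInner [Fintype (IrrCharacter G)] {f g : G → ℂ} (hf : IsGeneralizedCharacter G f)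
    (hg : IsGeneralizedCharacter G g) :
    ∑ χ : IrrCharacter G, classInner (χ : G → ℂ) f * classInner (χ : G → ℂ) g = classInner f g := by
  classical
  obtain ⟨m, hm⟩ := CharTheory.isGeneralizedCharacter_iff_exists_sum.1 hf
  obtain ⟨n, hn⟩ := CharTheory.isGeneralizedCharacter_iff_exists_sum.1 hg
  have h : ∀ χ : IrrCharacter G, classInner (χ : G → ℂ) f = m χ ∧ classInner (χ : G → ℂ) g = n χ :=
    fun χ => ⟨by rw [← classInner_irr_symm χ.2 hf, hm, CharTheory.classInner_sum_irr],
      by rw [← classInner_irr_symm χ.2 hg, hn, CharTheory.classInner_sum_irr]⟩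
  simp only [h]
  rw [hm, hn, CharTheory.classInner_generalized_sum]
  push_cast
  rfl

end General

variable {F : Type*} [Field F] [Fintype F] [DecidableEq F]

local notation "M₂" => Matrix (Fin 2) (Fin 2) F

theorem sum_dser_inner {C : Subgroup (SL(2, F))} (hT : NonsplitTorus C) [Fintype (C →* ℂˣ)]
    {θ₀ : C →* ℂˣ} (hθ1 : θ₀ ≠ 1) (hθu : ∀ θ : C →* ℂˣ, θ⁻¹ = θ → θ = 1 ∨ θ = θ₀) (hθi : θ₀⁻¹ = θ₀) :
    ∑ θ : C →* ℂˣ, classInner (hT.dser θ) (hT.dser θ) = (Fintype.card F : ℂ) + 3 := by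
  classical
  have h : ∀ θ : C →* ℂˣ, classInner (hT.dser θ) (hT.dser θ) =
      (1 : ℂ) + ((if θ = 1 then (1 : ℂ) else 0) + if θ = θ₀ then (1 : ℂ) else 0) := by
    intro θ
    rw [hT.dser_inner θ θ]
    rw [if_pos (rfl : θ = θ), add_right_inj]
    by_cases ha : θ⁻¹ = θ
    · rw [if_pos ha]
      rcases hθu θ ha with h | h
      · rw [h, if_pos rfl, if_neg (Ne.symm hθ1), add_zero]
      · rw [h, if_neg hθ1, if_pos rfl, zero_add]
    · rw [if_neg ha, if_neg, if_neg, add_zero]
      · intro e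
        exact ha (by rw [e]; exact hθi)
      · intro e
        exact ha (by rw [e]; exact MonoidHom.ext fun c => inv_one)
  rw [Finset.sum_congr rfl fun θ _ => h θ]
  rw [Finset.sum_add_distrib, Finset.sum_add_distrib, Finset.sum_const, Finset.card_univ,
    ← Nat.card_eq_fintype_card (α := C →* ℂˣ), hT.card_hom, Finset.sum_ite_eq', Finset.sum_ite_eq']
  simp
  ring

set_option maxHeartbeats 800000 in
/-- The number of irreducible characters of `SL₂` whose degree has a property, doubled. -/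
theorem two_mul_count (h2 : (2 : F) ≠ 0) (P : ℕ → Prop) [DecidablePred P] :
    ((2 * Nat.card {χ : IrrCharacter (SL(2, F)) // P (charDegree (χ : SL(2, F) → ℂ))} : ℕ) : ℂ) =
      2 * (if P 1 then (1 : ℂ) else 0) + 2 * (if P (Fintype.card F) then (1 : ℂ) else 0) +
      ((Fintype.card F : ℂ) - 3) * (if P (Fintype.card F + 1) then (1 : ℂ) else 0) +
      ((Fintype.card F : ℂ) - 1) * (if P (Fintype.card F - 1) then (1 : ℂ) else 0) +
      4 * (if P ((Fintype.card F + 1) / 2) then (1 : ℂ) else 0) +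
      4 * (if P ((Fintype.card F - 1) / 2) then (1 : ℂ) else 0) := by
  classical
  obtain ⟨C, hT⟩ := exists_nonsplitTorus h2
  haveI := hT.finite_hom
  letI := Fintype.ofFinite (C →* ℂˣ)
  letI := Fintype.ofFinite (IrrCharacter (SL(2, F)))
  obtain ⟨η, hη1, hηi, hηu, -⟩ := hT.exists_quadratic_char
  obtain ⟨θ₀, hθ1, hθi, hθu, -⟩ := hT.exists_quadratic_hom
  set one : SL(2, F) → ℂ := fun _ => 1 with hone
  set St : SL(2, F) → ℂ := fun g => principalSeries (1 : MulChar F ℂ) g - 1 with hSt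
  have hStd : St = principalSeries (1 : MulChar F ℂ) - one := rfl
  have h1irr : IsIrrCharacter (SL(2, F)) one := CharTheory.isIrrCharacter_one
  have g1 : IsGeneralizedCharacter (SL(2, F)) one := CharTheory.IsIrrCharacter.isGeneralizedCharacter h1irr
  have gR : ∀ α : MulChar F ℂ, IsGeneralizedCharacter (SL(2, F)) (principalSeries α) := fun α =>
    CharTheory.IsCharacter.isGeneralizedCharacter (principalSeries_isChar α)
  have gSt : IsGeneralizedCharacter (SL(2, F)) St := hStd ▸ Brauer.isGeneralizedCharacter_sub (gR 1) g1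
  have gD := hT.dser_isGen
  have c11 : classInner one one = 1 := CharTheory.classInner_self_of_isIrr h1irr
  have c1R : ∀ α : MulChar F ℂ, classInner one (principalSeries α) = if α = 1 then 1 else 0 := fun α => classInner_one_ps α
  have cR1 : ∀ α : MulChar F ℂ, classInner (principalSeries α) one = if α = 1 then 1 else 0 := fun α => by
    rw [classInner_irr_symm h1irr (gR α), c1R]
  have c1D : ∀ θ, classInner one (hT.dser θ) = -(if θ = 1 then (1 : ℂ) else 0) := fun θ => hT.one_inner_dser θ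
  have cD1 : ∀ θ, classInner (hT.dser θ) one = -(if θ = 1 then (1 : ℂ) else 0) := fun θ => by
    rw [classInner_irr_symm h1irr (gD θ), c1D]
  have cDR : ∀ θ α, classInner (hT.dser θ) (principalSeries α) = 0 := fun θ α => by
    rw [CharTheory.classInner_conj_symm, hT.dser_inner_ps, map_zero]
  have cSS : classInner St St = 1 := by
    rw [hStd, CharTheory.classInner_sub_left, CharTheory.classInner_sub_right, CharTheory.classInner_sub_right,
      cR1, c1R, c11, if_pos rfl, classInner_ps_ps, if_pos rfl, one_mul, if_pos rfl]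
    ring
  obtain ⟨R, hR⟩ : ∃ R : (SL(2, F) → ℂ) → ℂ, ∀ χ, R χ =
      ∑ α : MulChar F ℂ, classInner χ (principalSeries α) * classInner χ (principalSeries α) := ⟨_, fun _ => rfl⟩
  obtain ⟨D, hD⟩ : ∃ D : (SL(2, F) → ℂ) → ℂ, ∀ χ, D χ =
      ∑ θ : C →* ℂˣ, classInner χ (hT.dser θ) * classInner χ (hT.dser θ) := ⟨_, fun _ => rfl⟩
  obtain ⟨e, he⟩ : ∃ e : (SL(2, F) → ℂ) → (SL(2, F) → ℂ) → ℂ, ∀ f χ,
      e f χ = classInner χ f * classInner χ f := ⟨_, fun _ _ => rfl⟩
  obtain ⟨p1, hp1⟩ : ∃ x : ℂ, (if P 1 then (1 : ℂ) else 0) = x := ⟨_, rfl⟩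
  obtain ⟨pq, hpq⟩ : ∃ x : ℂ, (if P (Fintype.card F) then (1 : ℂ) else 0) = x := ⟨_, rfl⟩
  obtain ⟨pp, hpp⟩ : ∃ x : ℂ, (if P (Fintype.card F + 1) then (1 : ℂ) else 0) = x := ⟨_, rfl⟩
  obtain ⟨pm, hpm⟩ : ∃ x : ℂ, (if P (Fintype.card F - 1) then (1 : ℂ) else 0) = x := ⟨_, rfl⟩
  obtain ⟨hp, hhp⟩ : ∃ x : ℂ, (if P ((Fintype.card F + 1) / 2) then (1 : ℂ) else 0) = x := ⟨_, rfl⟩
  obtain ⟨hm, hhm⟩ : ∃ x : ℂ, (if P ((Fintype.card F - 1) / 2) then (1 : ℂ) else 0) = x := ⟨_, rfl⟩
  rw [hp1, hpq, hpp, hpm, hhp, hhm]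
  have hdeg : ∀ (χ : IrrCharacter (SL(2, F))) (n : ℕ), (χ : SL(2, F) → ℂ) 1 = n →
      (if P (charDegree (χ : SL(2, F) → ℂ)) then (1 : ℂ) else 0) = if P n then (1 : ℂ) else 0 := fun χ n h => by
    rw [ZerosCodegree.charDegree_eq h]
  have hodd := (odd_facts h2).2.2
  have hq := Fintype.one_lt_card (α := F)
  have key : ∀ χ : IrrCharacter (SL(2, F)), 2 * (if P (charDegree (χ : SL(2, F) → ℂ)) then (1 : ℂ) else 0) =
      2 * p1 * e one χ + 2 * pq * e St χ + pp * (R χ - e one χ - e St χ - e (principalSeries η) χ) +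
      pm * (D χ - e one χ - e St χ - e (hT.dser θ₀) χ) + 2 * hp * e (principalSeries η) χ +
      2 * hm * e (hT.dser θ₀) χ := by
    rintro ⟨χ, hχ⟩
    simp only [he, hR, hD, hStd, CharTheory.classInner_sub_right]
    rcases hT.irr_cases hη1 hηu hηi hθ1 hθu hθi hχ with h | h | ⟨α, hα, h⟩ | ⟨θ, hθ, h⟩ | ⟨h, hr, hr0, hd⟩ | ⟨h, hd, hd0, hr⟩
    · subst h
      rw [hdeg ⟨_, hχ⟩ 1 (by simp), hp1]
      simp [← hone, c11, c1R, c1D, hη1, hθ1]
    · subst h
      rw [hdeg ⟨_, hχ⟩ (Fintype.card F) (by simp [principalSeries_apply_one]), hpq]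
      rw [← hSt]
      simp only [hStd, CharTheory.classInner_sub_left, classInner_ps_ps, c1R, c1D, c11, cR1, hT.dser_inner_ps,
        one_mul]
      simp [hη1, hθ1, eq_comm (a := (1 : MulChar F ℂ))]
    · subst h
      rw [hdeg ⟨_, hχ⟩ (Fintype.card F + 1) (by simp [principalSeries_apply_one]), hpp]
      have hα1 : α ≠ 1 := fun e => hα (by rw [e, inv_one])
      have hαη : α ≠ η := fun e => hα (by rw [e, hηi])
      have hαη' : α * η ≠ 1 := fun e => hα (by rw [inv_eq_of_mul_eq_one_right e]; exact ((mul_eq_one_iff_eq_inv.1 e).trans hηi).symm)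
      have hne : ∀ x, ¬ (α = x ∧ α * x = 1) := fun x ⟨e1, e2⟩ => hα (by
        rw [← e1] at e2; exact inv_eq_of_mul_eq_one_right e2)
      have hsum : ∑ x : MulChar F ℂ, ((if α = x then (1 : ℂ) else 0) + if α * x = 1 then (1 : ℂ) else 0) *
          ((if α = x then (1 : ℂ) else 0) + if α * x = 1 then (1 : ℂ) else 0) = 2 := by
        rw [Finset.sum_congr rfl (g := fun x => (if α = x then (1 : ℂ) else 0) + if α⁻¹ = x then (1 : ℂ) else 0)
          (fun x _ => by
            by_cases h1 : α = x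
            · have h3 := not_and.1 (hne x) h1
              have h4 : α⁻¹ ≠ x := fun e => hα (e.trans h1.symm)
              simp [h1, h3, h4]
              rw [if_neg (h1 ▸ h3), if_neg (fun e => hα (h1 ▸ e))]
              ring
            · simp [h1, mul_eq_one_iff_inv_eq])]
        simp [Finset.sum_add_distrib]
        norm_num
      simp only [classInner_ps_ps, cR1, hT.dser_inner_ps, hα1, hαη, hαη', mul_one, if_false, hsum]
      simp
      ring
    · subst h
      rw [hdeg ⟨_, hχ⟩ (Fintype.card F - 1) (by show hT.dser θ 1 = _; rw [hT.dser_one, Nat.cast_sub hq.le, Nat.cast_one]), hpm]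
      have hθ' : θ ≠ 1 := fun e => hθ (e ▸ MonoidHom.ext fun c => inv_one)
      have hθθ : θ ≠ θ₀ := fun e => hθ (by rw [e, hθi])
      have hθθ' : θ⁻¹ ≠ θ₀ := fun e => hθ (by
        refine MonoidHom.ext fun c => ?_
        have h1 : (θ c)⁻¹ = θ₀ c := DFunLike.congr_fun e c
        have h2 : (θ₀ c)⁻¹ = θ₀ c := DFunLike.congr_fun hθi c
        show (θ c)⁻¹ = θ c
        rw [h1, ← inv_inv (θ c), h1, h2])
      have hsum : ∑ x : C →* ℂˣ, ((if θ = x then (1 : ℂ) else 0) + if θ⁻¹ = x then (1 : ℂ) else 0) *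
          ((if θ = x then (1 : ℂ) else 0) + if θ⁻¹ = x then (1 : ℂ) else 0) = 2 := by
        rw [Finset.sum_congr rfl (g := fun x => (if θ = x then (1 : ℂ) else 0) + if θ⁻¹ = x then (1 : ℂ) else 0)
          (fun x _ => by
            by_cases h1 : θ = x
            · have h4 : θ⁻¹ ≠ x := fun e => hθ (e.trans h1.symm)
              rw [if_pos h1, if_neg h4]; ring
            · rw [if_neg h1]; split_ifs <;> ring)]
        simp [Finset.sum_add_distrib]
        norm_num
      simp only [hT.dser_inner, cD1, cDR, hθ', hθθ, hθθ', if_false, hsum]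
      simp
      ring
    · have hn1 : classInner χ one = 0 := CharTheory.classInner_eq_zero_of_ne hχ h1irr fun e => by
        subst e
        rw [c1R, if_neg hη1] at hr
        norm_num at hr
      rw [hdeg ⟨_, hχ⟩ ((Fintype.card F + 1) / 2) (mul_left_cancel₀ two_ne_zero (by
        rw [h, ← Nat.cast_ofNat, ← Nat.cast_mul, Nat.mul_div_cancel' (by omega)]; simp)), hhp]
      rw [Finset.sum_eq_single η (fun α _ hα => by rw [hr0 α hα, zero_mul]) (by simp),
        Finset.sum_eq_single θ₀ (fun θ _ _ => by rw [hd θ, zero_mul]) (by simp), hr, hd, hn1,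
        hr0 1 (Ne.symm hη1)]
      ring
    · have hn1 : classInner χ one = 0 := CharTheory.classInner_eq_zero_of_ne hχ h1irr fun e => by
        subst e
        rw [c1D, if_neg hθ1] at hd
        norm_num at hd
      rw [hdeg ⟨_, hχ⟩ ((Fintype.card F - 1) / 2) (mul_left_cancel₀ two_ne_zero (by
        rw [h, ← Nat.cast_ofNat, ← Nat.cast_mul, Nat.mul_div_cancel' (by omega), Nat.cast_sub hq.le]; simp)), hhm]
      rw [Finset.sum_eq_single η (fun α _ _ => by rw [hr α, zero_mul]) (by simp),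
        Finset.sum_eq_single θ₀ (fun θ _ hθ => by rw [hd0 θ hθ, zero_mul]) (by simp), hd, hn1]
      simp only [hr]
      ring
  have hS : ∀ f, IsGeneralizedCharacter (SL(2, F)) f →
      ∑ χ : IrrCharacter (SL(2, F)), e f (χ : SL(2, F) → ℂ) = classInner f f := fun f hf => by
    simp only [he]
    exact sum_mul_classInner hf hf
  have hsR : ∑ χ : IrrCharacter (SL(2, F)), R (χ : SL(2, F) → ℂ) = (Fintype.card F : ℂ) + 1 := by
    simp only [hR]
    rw [Finset.sum_comm, Finset.sum_congr rfl (g := fun α => (1 : ℂ) + ((if α = 1 then (1 : ℂ) else 0) + if α = η then (1 : ℂ) else 0))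
      (fun α _ => by
        rw [sum_mul_classInner (gR α) (gR α), classInner_ps_ps, if_pos rfl]
        congr 1
        by_cases ha : α * α = 1
        · rw [if_pos ha]
          rcases hηu α (inv_eq_of_mul_eq_one_right ha) with rfl | rfl
          · simp [Ne.symm hη1]
          · simp [hη1]
        · rw [if_neg ha, if_neg (fun e => ha (by rw [e, one_mul])),
            if_neg (fun e => ha (by subst e; nth_rewrite 1 [← hηi]; exact inv_mul_cancel α))]
          ring)]
    simp [Finset.sum_add_distrib, card_mulChar, Nat.cast_sub hq.le]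
  have hsD : ∑ χ : IrrCharacter (SL(2, F)), D (χ : SL(2, F) → ℂ) = (Fintype.card F : ℂ) + 3 := by
    simp only [hD]
    rw [Finset.sum_comm, ← sum_dser_inner hT hθ1 hθu hθi]
    exact Finset.sum_congr rfl fun θ _ => sum_mul_classInner (gD θ) (gD θ)
  have hcount : ((2 * Nat.card {χ : IrrCharacter (SL(2, F)) // P (charDegree (χ : SL(2, F) → ℂ))} : ℕ) : ℂ) =
      ∑ χ : IrrCharacter (SL(2, F)), 2 * (if P (charDegree (χ : SL(2, F) → ℂ)) then (1 : ℂ) else 0) := by
    rw [← Finset.mul_sum, Finset.sum_boole, Nat.card_eq_fintype_card, Fintype.card_subtype]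
    push_cast
    rfl
  rw [hcount, Finset.sum_congr rfl fun χ _ => key χ]
  simp only [Finset.sum_add_distrib, Finset.sum_sub_distrib, ← Finset.mul_sum, hS _ g1, hS _ gSt,
    hS _ (gR η), hS _ (gD θ₀), hsR, hsD, c11, cSS]
  rw [classInner_ps_ps, if_pos rfl, if_pos (by nth_rewrite 1 [← hηi]; exact inv_mul_cancel η),
    hT.dser_inner, if_pos (rfl : θ₀ = θ₀), if_pos hθi]
  ring

end CfsgLib.CharDegrees
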