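import Mathlib

/-!
Sourour's factorisation: a non-scalar matrix is similar to a product of a lower and an upper
triangular matrix with prescribed diagonals, subject only to the determinant condition.
-/

set_option autoImplicit false
set_option linter.style.haveILetI false

namespace CfsgLib.CharDegrees

open Matrix Finset

variable {F : Type*} [Field F]

/-- The `(n+1)`-matrix with blocks `a`, row `c`, column `b`, block `D`. -/
def blk {n : ℕ} (a : F) (c b : Fin n → F) (D : Matrix (Fin n) (Fin n) F) :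
    Matrix (Fin (n + 1)) (Fin (n + 1)) F :=
  Matrix.of (Fin.cons (Fin.cons a c) fun i => Fin.cons (b i) (D i))

theorem blk_mul {n : ℕ} (a a' : F) (c b c' b' : Fin n → F) (D D' : Matrix (Fin n) (Fin n) F) :
    blk a c b D * blk a' c' b' D' =
      blk (a * a' + c ⬝ᵥ b') (a • c' + c ᵥ* D') (a' • b + D *ᵥ b') (vecMulVec b c' + D * D') := by
  ext i j
  refine Fin.cases ?_ (fun i => ?_) i <;> refine Fin.cases ?_ (fun j => ?_) j <;>
    simp [blk, Matrix.mul_apply, Fin.sum_univ_succ, dotProduct, vecMul, mulVec, vecMulVec, mul_comm]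

theorem blk_eta {n : ℕ} (M : Matrix (Fin (n + 1)) (Fin (n + 1)) F) :
    M = blk (M 0 0) (fun j => M 0 j.succ) (fun i => M i.succ 0) (fun i j => M i.succ j.succ) := by
  ext i j
  refine Fin.cases ?_ (fun i => ?_) i <;> refine Fin.cases ?_ (fun j => ?_) j <;> simp [blk]

theorem blk_one {n : ℕ} : (blk 1 0 0 1 : Matrix (Fin (n + 1)) (Fin (n + 1)) F) = 1 := by
  ext i j
  refine Fin.cases ?_ (fun i => ?_) i <;> refine Fin.cases ?_ (fun j => ?_) j <;>
    simp [blk, Matrix.one_apply, (Fin.succ_ne_zero _).symm]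

theorem det_blk_upper {n : ℕ} (a : F) (c : Fin n → F) (D : Matrix (Fin n) (Fin n) F) :
    (blk a c 0 D).det = a * D.det := by
  rw [Matrix.det_succ_column_zero, Fin.sum_univ_succ]
  simp [blk]
  left
  congr 1

theorem det_blk_lower {n : ℕ} (a : F) (b : Fin n → F) (D : Matrix (Fin n) (Fin n) F) :
    (blk a 0 b D).det = a * D.det := by
  rw [Matrix.det_succ_row_zero, Fin.sum_univ_succ]
  simp [blk]
  left
  congr 1

/-- `L` is lower triangular with diagonal `β`. -/
def IsLTDiag {n : ℕ} (L : Matrix (Fin n) (Fin n) F) (β : Fin n → F) : Prop :=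
  (∀ i j, i < j → L i j = 0) ∧ ∀ i, L i i = β i

/-- `U` is upper triangular with diagonal `γ`. -/
def IsUTDiag {n : ℕ} (U : Matrix (Fin n) (Fin n) F) (γ : Fin n → F) : Prop :=
  (∀ i j, j < i → U i j = 0) ∧ ∀ i, U i i = γ i

theorem IsLTDiag.blk {n : ℕ} {L : Matrix (Fin n) (Fin n) F} {β : Fin (n + 1) → F}
    (h : IsLTDiag L (fun i => β i.succ)) (b : Fin n → F) :
    IsLTDiag (blk (β 0) 0 b L) β := by
  constructor
  · intro i j
    refine Fin.cases ?_ (fun i => ?_) i <;> refine Fin.cases ?_ (fun j => ?_) j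
    · simp
    · simp [CharDegrees.blk]
    · simp
    · intro hij
      simp [CharDegrees.blk]
      exact h.1 i j (Fin.succ_lt_succ_iff.mp hij)
  · intro i
    refine Fin.cases ?_ (fun i => ?_) i <;> simp [CharDegrees.blk, h.2]

theorem IsUTDiag.blk {n : ℕ} {U : Matrix (Fin n) (Fin n) F} {γ : Fin (n + 1) → F}
    (h : IsUTDiag U (fun i => γ i.succ)) (c : Fin n → F) :
    IsUTDiag (blk (γ 0) c 0 U) γ := by
  constructor
  · intro i j
    refine Fin.cases ?_ (fun i => ?_) i <;> refine Fin.cases ?_ (fun j => ?_) j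
    · simp
    · simp
    · simp [CharDegrees.blk]
    · intro hij
      simp [CharDegrees.blk]
      exact h.1 i j (Fin.succ_lt_succ_iff.mp hij)
  · intro i
    refine Fin.cases ?_ (fun i => ?_) i <;> simp [CharDegrees.blk, h.2]

/-- `A` is similar to `B`. -/
def IsSim {n : ℕ} (A B : Matrix (Fin n) (Fin n) F) : Prop :=
  ∃ P Q : Matrix (Fin n) (Fin n) F, P * Q = 1 ∧ Q * P = 1 ∧ A = P * B * Q

theorem IsSim.trans {n : ℕ} {A B C : Matrix (Fin n) (Fin n) F} (h : IsSim A B) (h' : IsSim B C) :
    IsSim A C := by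
  obtain ⟨P, Q, hPQ, hQP, rfl⟩ := h
  obtain ⟨P', Q', hPQ', hQP', rfl⟩ := h'
  refine ⟨P * P', Q' * Q, ?_, ?_, ?_⟩
  · rw [mul_assoc, ← mul_assoc P', hPQ', one_mul, hPQ]
  · rw [mul_assoc, ← mul_assoc Q, hQP, one_mul, hQP']
  · noncomm_ring

/-- Change of basis: `v ↦ e₀`, `A v - a v ↦ e₁`. -/
theorem exists_sim_first_column {n : ℕ} (A : Matrix (Fin (n + 2)) (Fin (n + 2)) F)
    (hA : ∀ c : F, A ≠ c • 1) (a : F) :
    ∃ c : Fin (n + 1) → F, ∃ D : Matrix (Fin (n + 1)) (Fin (n + 1)) F,
      IsSim A (blk a c (Pi.single 0 1) D) := by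
  classical
  obtain ⟨v, hv, hvA⟩ : ∃ v : Fin (n + 2) → F, v ≠ 0 ∧ ∀ c : F, A *ᵥ v ≠ c • v := by
    by_contra hcon
    push Not at hcon
    obtain ⟨c0, hc0⟩ := hcon (Pi.single 0 1) (by simp)
    apply hA c0
    have key : ∀ i, ∃ c, A *ᵥ Pi.single i 1 = c • Pi.single i 1 := fun i => hcon _ (by simp)
    have hcol : ∀ i, A *ᵥ Pi.single i 1 = c0 • Pi.single i 1 := by
      intro i
      obtain ⟨ci, hci⟩ := key i
      rcases eq_or_ne i 0 with rfl | hi
      · exact hc0
      obtain ⟨cs, hcs⟩ := hcon (Pi.single 0 1 + Pi.single i 1)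
        (fun h => by simpa [hi] using congrFun h i)
      rw [mulVec_add, hc0, hci, smul_add] at hcs
      have h1 := congrFun hcs 0
      have h2 := congrFun hcs i
      simp [hi, hi.symm] at h1 h2
      rw [hci, h2, ← h1]
    ext i j
    have := congrFun (hcol j) i
    simpa [mulVec_single, Matrix.one_apply, Pi.single_apply] using this
  set w := A *ᵥ v - a • v
  have hli : LinearIndependent F ![v, w] := by
    rw [LinearIndependent.pair_iff' hv]
    intro c hc
    exact hvA (c + a) (by rw [add_smul, hc, sub_add_cancel])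
  have hs := hli.linearIndepOn_id
  let b₀ := Module.Basis.extend hs
  let v₁ : hs.extend (Set.subset_univ _) := ⟨v, hs.subset_extend _ ⟨0, rfl⟩⟩
  let w₁ : hs.extend (Set.subset_univ _) := ⟨w, hs.subset_extend _ ⟨1, rfl⟩⟩
  have hvw : v₁ ≠ w₁ := fun h => zero_ne_one (hli.injective (congrArg Subtype.val h : (![v, w] 0) = ![v, w] 1))
  let e₀ : hs.extend (Set.subset_univ _) ≃ Fin (n + 2) := b₀.indexEquiv (Pi.basisFun F (Fin (n + 2)))
  let σ₁ : Equiv.Perm (Fin (n + 2)) := Equiv.swap (e₀ v₁) 0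
  let σ₂ : Equiv.Perm (Fin (n + 2)) := Equiv.swap (σ₁ (e₀ w₁)) 1
  let e := (e₀.trans σ₁).trans σ₂
  have he0 : e v₁ = 0 := by
    have h1 : σ₁ (e₀ v₁) = 0 := Equiv.swap_apply_left _ _
    have h2 : σ₁ (e₀ w₁) ≠ 0 := by
      rw [← h1]
      simpa using hvw.symm
    simp only [e, Equiv.trans_apply, h1]
    exact Equiv.swap_apply_of_ne_of_ne h2.symm (by simp)
  have he1 : e w₁ = 1 := by
    simp [e, σ₂]
  let b := b₀.reindex e
  have hb0 : b 0 = v := by
    simp only [b, Module.Basis.reindex_apply]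
    rw [← he0, Equiv.symm_apply_apply]
    exact Module.Basis.extend_apply_self hs v₁
  have hb1 : b 1 = w := by
    simp only [b, Module.Basis.reindex_apply]
    rw [← he1, Equiv.symm_apply_apply]
    exact Module.Basis.extend_apply_self hs w₁
  obtain ⟨M, hM'⟩ : ∃ M : Matrix (Fin (n + 2)) (Fin (n + 2)) F,
      M = LinearMap.toMatrix b b (Matrix.toLin' A) := ⟨_, rfl⟩
  refine ⟨fun j => M 0 j.succ, fun i j => M i.succ j.succ,
    (Pi.basisFun F (Fin (n + 2))).toMatrix b, b.toMatrix (Pi.basisFun F (Fin (n + 2))), ?_, ?_, ?_⟩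
  · exact Module.Basis.toMatrix_mul_toMatrix_flip _ _
  · exact Module.Basis.toMatrix_mul_toMatrix_flip _ _
  · have h1 : blk a (fun j => M 0 j.succ) (Pi.single 0 1) (fun i j => M i.succ j.succ) = M := by
      conv_rhs => rw [blk_eta M]
      have hM : ∀ i, M i 0 = b.repr (a • b 0 + b 1) i := fun i => by
        rw [hM', LinearMap.toMatrix_apply, Matrix.toLin'_apply, hb1, hb0, add_sub_cancel]
      congr 1
      · rw [hM]; simp
      · funext i
        rw [hM, map_add, map_smul, Module.Basis.repr_self, Module.Basis.repr_self]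
        refine Fin.cases ?_ (fun i => ?_) i
        · simp
        · simp [Finsupp.single_apply, Pi.single_apply, Fin.ext_iff, eq_comm]
    rw [h1, hM', basis_toMatrix_mul_linearMap_toMatrix_mul_basis_toMatrix,
      LinearMap.toMatrix_eq_toMatrix', LinearMap.toMatrix'_toLin']

theorem sourour {n : ℕ} (A : Matrix (Fin n) (Fin n) F) (hA : ∀ c : F, A ≠ c • 1) (β γ : Fin n → F)
    (hβ : ∀ i, β i ≠ 0) (hγ : ∀ i, γ i ≠ 0) (hdet : A.det = (∏ i, β i) * ∏ i, γ i) :
    ∃ L U, IsLTDiag L β ∧ IsUTDiag U γ ∧ IsSim A (L * U) := by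
  induction n with
  | zero => exact absurd (Subsingleton.elim _ _) (hA 1)
  | succ n ih =>
    match n with
    | 0 =>
      refine absurd ?_ (hA (A 0 0))
      ext i j
      rw [Fin.fin_one_eq_zero i, Fin.fin_one_eq_zero j]
      simp
    | n + 1 =>
      set a := β 0 * γ 0 with ha
      have ha0 : a ≠ 0 := mul_ne_zero (hβ 0) (hγ 0)
      obtain ⟨c, D, hsim⟩ := exists_sim_first_column A hA a
      set e : Fin (n + 1) → F := Pi.single 0 1 with he
      have hdetA : A.det = (blk a c e D).det := by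
        obtain ⟨P, Q, hPQ, -, rfl⟩ := hsim
        rw [det_mul, det_mul, mul_comm P.det, mul_assoc, ← det_mul, hPQ, det_one, mul_one]
      have hfac : ∀ (c : Fin (n + 1) → F) (D : Matrix (Fin (n + 1)) (Fin (n + 1)) F),
          blk a c e D = blk 1 0 (a⁻¹ • e) 1 * blk a c 0 (D - a⁻¹ • vecMulVec e c) := by
        intro c D
        rw [blk_mul]
        simp [smul_smul, mul_inv_cancel₀ ha0, smul_vecMulVec]
      have hdetD : a * (D - a⁻¹ • vecMulVec e c).det = A.det := by
        rw [hdetA, hfac, det_mul, det_blk_lower, det_one, mul_one, one_mul, det_blk_upper]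
      have hdet' : (D - a⁻¹ • vecMulVec e c).det = (∏ i : Fin (n + 1), β i.succ) * ∏ i : Fin (n + 1), γ i.succ := by
        refine mul_left_cancel₀ ha0 ?_
        rw [hdetD, hdet, Fin.prod_univ_succ β, Fin.prod_univ_succ γ, ha]
        ring
      obtain ⟨c', D', hsim', hD'det, hgood⟩ : ∃ c' D', IsSim A (blk a c' e D') ∧
          (D' - a⁻¹ • vecMulVec e c').det = (∏ i : Fin (n + 1), β i.succ) * ∏ i : Fin (n + 1), γ i.succ ∧
          ((∀ x : F, D' - a⁻¹ • vecMulVec e c' ≠ x • 1) ∨ n = 0) := by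
        by_cases hs : ∀ x : F, D - a⁻¹ • vecMulVec e c ≠ x • 1
        · exact ⟨c, D, hsim, hdet', Or.inl hs⟩
        by_cases hn0 : n = 0
        · exact ⟨c, D, hsim, hdet', Or.inr hn0⟩
        push Not at hs
        obtain ⟨δ, hδ⟩ := hs
        have hδ0 : δ ≠ 0 := by
          intro h
          rw [hδ, h, zero_smul, det_zero] at hdet'
          exact mul_ne_zero (prod_ne_zero_iff.mpr fun i _ => hβ _)
            (prod_ne_zero_iff.mpr fun i _ => hγ _) hdet'.symm
        let k : Fin (n + 1) := ⟨1, by omega⟩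
        have hk : k ≠ 0 := by simp [k, Fin.ext_iff]
        set μ : Fin (n + 1) → F := Pi.single k 1 with hμ
        have hμe : μ ⬝ᵥ e = 0 := by simp [hμ, he, hk]
        have hP : blk 1 μ 0 (1 : Matrix (Fin (n + 1)) (Fin (n + 1)) F) * blk 1 (-μ) 0 1 = 1 := by
          rw [blk_mul]
          refine Eq.trans ?_ blk_one
          congr 1 <;> simp
        have hQ : blk 1 (-μ) 0 (1 : Matrix (Fin (n + 1)) (Fin (n + 1)) F) * blk 1 μ 0 1 = 1 := by
          rw [blk_mul]
          refine Eq.trans ?_ blk_one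
          congr 1 <;> simp
        have hDeq : D = δ • 1 + a⁻¹ • vecMulVec e c := by rw [← hδ, sub_add_cancel]
        set c2 : Fin (n + 1) → F := a • μ + c - δ • μ with hc2
        set D2 : Matrix (Fin (n + 1)) (Fin (n + 1)) F := D + vecMulVec e μ with hD2
        have hconj : blk a c e D = blk 1 μ 0 1 * blk a c2 e D2 * blk 1 (-μ) 0 1 := by
          rw [blk_mul, blk_mul]
          congr 1
          · simp [hμe]
          · have h1 : μ ᵥ* D2 = δ • μ := by
              rw [hD2, hDeq, vecMul_add, vecMul_add, vecMul_smul, vecMul_smul, vecMul_one,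
                vecMul_vecMulVec, vecMul_vecMulVec, hμe]
              simp
            simp [hμe, h1, hc2]
          · simp
          · simp [hD2]
        refine ⟨c2, D2, hsim.trans ⟨_, _, hP, hQ, hconj⟩, ?_, Or.inl ?_⟩
        · refine mul_left_cancel₀ ha0 ?_
          rw [← hdet']
          have h1 : (blk a c e D).det = (blk a c2 e D2).det := by
            rw [hconj, det_mul, det_mul, det_blk_upper, det_blk_upper]; simp
          rw [hfac, hfac c2, det_mul, det_mul, det_blk_lower, det_blk_upper, det_blk_upper] at h1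
          simpa using h1.symm
        · intro x hx
          have h1 : D2 - a⁻¹ • vecMulVec e c2 = δ • 1 + (a⁻¹ * δ) • vecMulVec e μ := by
            rw [hD2, hDeq, hc2]
            ext i j
            simp [vecMulVec]
            field_simp
            ring
          rw [h1] at hx
          have h2 := congrFun (congrFun hx 0) k
          simp [he, hμ, vecMulVec, Matrix.one_apply, hk.symm, ha0, hδ0] at h2
      obtain ⟨L, U, hL, hU, P, Q, hPQ, hQP, hLU⟩ :
          ∃ L U, IsLTDiag L (fun i => β i.succ) ∧ IsUTDiag U (fun i => γ i.succ) ∧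
            IsSim (D' - a⁻¹ • vecMulVec e c') (L * U) := by
        rcases hgood with hg | rfl
        · exact ih _ hg _ _ (fun i => hβ _) (fun i => hγ _) hD'det
        · refine ⟨diagonal fun i => β i.succ, diagonal fun i => γ i.succ,
            ⟨fun i j h => diagonal_apply_ne _ h.ne, fun i => diagonal_apply_eq _ i⟩,
            ⟨fun i j h => diagonal_apply_ne _ h.ne', fun i => diagonal_apply_eq _ i⟩,
            1, 1, one_mul 1, one_mul 1, ?_⟩
          rw [one_mul, mul_one, diagonal_mul_diagonal]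
          ext i j
          rw [Fin.fin_one_eq_zero i, Fin.fin_one_eq_zero j]
          simpa using hD'det
      refine ⟨blk (β 0) 0 ((γ 0)⁻¹ • (Q *ᵥ e)) L, blk (γ 0) ((β 0)⁻¹ • (c' ᵥ* P)) 0 U,
        hL.blk _, hU.blk _, hsim'.trans ⟨blk 1 0 0 P, blk 1 0 0 Q, ?_, ?_, ?_⟩⟩
      · rw [blk_mul, hPQ]
        refine Eq.trans ?_ blk_one
        congr 1 <;> simp
      · rw [blk_mul, hQP]
        refine Eq.trans ?_ blk_one
        congr 1 <;> simp
      · rw [blk_mul, blk_mul, blk_mul]
        have hD'' : D' = P * (L * U) * Q + a⁻¹ • vecMulVec e c' := by rw [← hLU, sub_add_cancel]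
        congr 1
        · simp [ha]
        · simp [smul_smul, mul_inv_cancel₀ (hβ 0), vecMul_vecMul, hPQ]
        · simp [smul_smul, mul_inv_cancel₀ (hγ 0), mulVec_mulVec, hPQ]
        · rw [hD'']
          simp only [zero_vecMul, smul_zero, add_zero, zero_add, vecMulVec_zero, zero_vecMulVec]
          simp only [vecMulVec_smul, smul_vecMulVec, Matrix.mul_smul, Matrix.smul_mul, mul_add,
            add_mul, mul_vecMulVec, vecMulVec_mul, mulVec_mulVec, vecMul_vecMul, hPQ, one_mulVec,
            vecMul_one, ha, mul_inv, smul_smul]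
          abel

end CfsgLib.CharDegrees
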